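import Mathlib
import Cfsg.Agent.H644.Pairs

/-!
# Idempotents of `c * C_{K[G]}(N)` for a block `c` of a normal subgroup `N`

`K` is the residue field at `M`, `N` is normal in `G`, `Q ≤ N` is a `p`-group and `c` is a block of
`N` whose idempotent is not killed by the Brauer map at `Q`.

* `eq_zero_of_br`: an idempotent of `K[G]` commuting with `N`, lying in the ideal of `c` and killed
  by the Brauer map at `Q` is zero.
-/

set_option autoImplicit false
set_option linter.unusedSectionVars false

open Cfsg

namespace Cfsg.Agent.H648.CoverAlg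

open Cfsg.Agent.H644 Cfsg.Agent.Blocks.Local Cfsg.Agent.Blocks.MinMax

section Path

variable {Γ A : Type*} [Group Γ] [Fintype Γ] [Ring A]

theorem list_prod_mem (a : Γ → A) (J : AddSubgroup A)
    (hl : ∀ x ∈ J, ∀ y, y * x ∈ J) (hr : ∀ x ∈ J, ∀ y, x * y ∈ J)
    (hret : ∀ l : List Γ, l ≠ [] → l.prod = 1 → (l.map a).prod ∈ J)
    (l : List Γ) (hlen : l.length = Fintype.card Γ) : (l.map a).prod ∈ J := by
  classical
  have key : ∀ i j : ℕ, i < j → j ≤ l.length → (l.take i).prod = (l.take j).prod →
      (l.map a).prod ∈ J := by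
    intro i j hij hj h
    have h1 : l.take j = l.take i ++ (l.take j).drop i := by
      conv_lhs => rw [← List.take_append_drop i (l.take j)]
      rw [List.take_take, min_eq_left hij.le]
    have h2 : ((l.take j).drop i).prod = 1 := by
      rw [h1, List.prod_append] at h
      simpa using h
    have h3 : (l.take j).drop i ≠ [] := by
      intro h4
      have h5 := congrArg List.length h4
      rw [List.length_drop, List.length_take, List.length_nil] at h5
      omega
    have h4 : (l.map a).prod = ((l.take i).map a).prod * (((l.take j).drop i).map a).prod *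
        ((l.drop j).map a).prod := by
      conv_lhs => rw [← List.take_append_drop j l, h1]
      rw [List.map_append, List.map_append, List.prod_append, List.prod_append]
    rw [h4]
    exact hr _ (hl _ (hret _ h3 h2) _) _
  obtain ⟨i, hi, j, hj, hij, h⟩ := Finset.exists_ne_map_eq_of_card_lt_of_maps_to
    (s := Finset.range (l.length + 1)) (t := (Finset.univ : Finset Γ))
    (f := fun i => (l.take i).prod) (by rw [Finset.card_range, hlen, Finset.card_univ]; omega)
    (fun i _ => Finset.mem_univ _)
  rw [Finset.mem_range] at hi hj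
  rcases lt_or_gt_of_ne hij with h1 | h1
  · exact key i j h1 (by omega) h
  · exact key j i h1 (by omega) h.symm

theorem sum_pow_mem_closure (a : Γ → A) (n : ℕ) :
    (∑ γ, a γ) ^ n ∈ AddSubgroup.closure {x : A | ∃ l : List Γ, l.length = n ∧
      x = (l.map a).prod} := by
  induction n with
  | zero =>
    rw [pow_zero]
    exact AddSubgroup.subset_closure ⟨[], rfl, by simp⟩
  | succ n ih =>
    rw [pow_succ]
    refine AddSubgroup.closure_induction (p := fun x _ => x * ∑ γ, a γ ∈
      AddSubgroup.closure {x : A | ∃ l : List Γ, l.length = n + 1 ∧ x = (l.map a).prod})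
      ?_ ?_ ?_ ?_ ih
    · rintro x ⟨l, hl, rfl⟩
      rw [Finset.mul_sum]
      refine AddSubgroup.sum_mem _ fun γ _ => AddSubgroup.subset_closure ⟨l ++ [γ], ?_, ?_⟩
      · rw [List.length_append, hl]; rfl
      · rw [List.map_append, List.prod_append]; simp
    · rw [zero_mul]; exact AddSubgroup.zero_mem _
    · intro x y _ _ hx hy
      rw [add_mul]; exact AddSubgroup.add_mem _ hx hy
    · intro x _ hx
      rw [neg_mul]; exact AddSubgroup.neg_mem _ hx

/-- If all returning products of the homogeneous components lie in the two-sided ideal `J`, then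
some power of the sum of the components lies in `J`. -/
theorem sum_pow_mem (a : Γ → A) (J : AddSubgroup A)
    (hl : ∀ x ∈ J, ∀ y, y * x ∈ J) (hr : ∀ x ∈ J, ∀ y, x * y ∈ J)
    (hret : ∀ l : List Γ, l ≠ [] → l.prod = 1 → (l.map a).prod ∈ J) :
    (∑ γ, a γ) ^ (Fintype.card Γ) ∈ J := by
  have h1 := sum_pow_mem_closure a (Fintype.card Γ)
  rw [← SetLike.mem_coe] at h1
  refine (AddSubgroup.closure_le J).2 ?_ h1
  rintro x ⟨l, hlen, rfl⟩
  exact list_prod_mem a J hl hr hret l hlen

end Path

section Nil

variable {K : Type*} [Field K] {G : Type*} [Group G] [Finite G] (N : Subgroup G) [N.Normal]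

theorem isNilpotent_nilradical_center {H : Type*} [Group H] [Finite H] :
    IsNilpotent (nilradical (Subalgebra.center K (MonoidAlgebra K H))) := by
  have : Module.Finite K (MonoidAlgebra K H) := by infer_instance
  have : IsNoetherianRing (Subalgebra.center K (MonoidAlgebra K H)) :=
    IsNoetherianRing.of_finite K _
  exact IsNoetherianRing.isNilpotent_nilradical _

/-- The additive subgroup generated by the products `emb z * y`, `z` in a power of the nilradical
of the centre of `K[N]`. -/
noncomputable def T (K : Type*) [Field K] (N : Subgroup G) (j : ℕ) :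
    AddSubgroup (MonoidAlgebra K G) :=
  AddSubgroup.closure {x | ∃ z : Subalgebra.center K (MonoidAlgebra K N),
    z ∈ nilradical (Subalgebra.center K (MonoidAlgebra K N)) ^ j ∧ ∃ y, x = emb N z.1 * y}

theorem T_mul {j : ℕ} {x : MonoidAlgebra K G} (hx : x ∈ T K N j) (y : MonoidAlgebra K G) :
    x * y ∈ T K N j := by
  refine AddSubgroup.closure_induction (p := fun x _ => x * y ∈ T K N j) ?_ ?_ ?_ ?_ hx
  · rintro x ⟨z, hz, w, rfl⟩
    exact AddSubgroup.subset_closure ⟨z, hz, w * y, by rw [mul_assoc]⟩
  · rw [zero_mul]; exact AddSubgroup.zero_mem _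
  · intro x x' _ _ h h'
    rw [add_mul]; exact AddSubgroup.add_mem _ h h'
  · intro x _ h
    rw [neg_mul]; exact AddSubgroup.neg_mem _ h

/-- An element supported on `N` comes from `K[N]`. -/
theorem emb_res_of_supp {L : Subgroup G} {x : MonoidAlgebra K G}
    (h : ∀ g, g ∉ L → x.coeff g = 0) : emb L (res L x) = x := by
  refine ext_coeff fun g => ?_
  by_cases hg : g ∈ L
  · rw [coeff_emb_of_mem _ hg, coeff_res]
  · rw [coeff_emb_of_notMem _ hg, h g hg]

/-- Conjugation by an element of `G` on `K[N]`, `N` normal. -/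
theorem cj_emb (g : G) (z : MonoidAlgebra K N) :
    emb N (res N (cj g (emb N z))) = cj g (emb N z) := by
  refine emb_res_of_supp fun h hh => ?_
  rw [coeff_cj]
  refine coeff_emb_of_notMem _ fun h1 => hh ?_
  have h2 := ‹N.Normal›.conj_mem _ h1 g
  simpa [mul_assoc] using h2

theorem single_mul_eq (g : G) (x : MonoidAlgebra K G) :
    MonoidAlgebra.single g (1 : K) * x = cj g x * MonoidAlgebra.single g 1 := by
  refine ext_coeff fun h => ?_
  rw [show (MonoidAlgebra.single g (1 : K) * x).coeff h = x.coeff (g⁻¹ * h) by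
    rw [MonoidAlgebra.coeff_single_mul_apply, one_mul],
    show (cj g x * MonoidAlgebra.single g (1 : K)).coeff h = (cj g x).coeff (h * g⁻¹) by
    rw [MonoidAlgebra.coeff_mul_single_apply, mul_one], coeff_cj]
  congr 1
  group

theorem mul_T_one {x : MonoidAlgebra K G} (hx : x ∈ T K N 1) (y : MonoidAlgebra K G) :
    y * x ∈ T K N 1 := by
  refine AddSubgroup.closure_induction (p := fun x _ => y * x ∈ T K N 1) ?_ ?_ ?_ ?_ hx
  · rintro x ⟨z, hz, w, rfl⟩
    induction y using MonoidAlgebra.induction_linear with
    | zero => rw [zero_mul]; exact AddSubgroup.zero_mem _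
    | add a b ha hb => rw [add_mul]; exact AddSubgroup.add_mem _ ha hb
    | single g r =>
      have h1 : MonoidAlgebra.single g r = r • (MonoidAlgebra.single g (1 : K)) := by
        rw [MonoidAlgebra.smul_single, smul_eq_mul, mul_one]
      rw [h1, smul_mul_assoc, ← mul_assoc, single_mul_eq, ← cj_emb, mul_assoc]
      rw [pow_one, mem_nilradical] at hz
      have hcls : IsCls z.1 := isCls_iff_mem_center.2 z.2
      have hz' : IsCls (res N (cj g (emb N z.1))) := by
        intro a b
        rw [coeff_res, coeff_res, coeff_cj, coeff_cj]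
        push_cast
        have hN : ∀ x : N, g⁻¹ * (x : G) * g ∈ N := fun x => by
          have := ‹N.Normal›.conj_mem _ x.2 g⁻¹
          simpa using this
        have e1 : g⁻¹ * ((b : G) * a * (b : G)⁻¹) * g =
            (g⁻¹ * b * g) * (g⁻¹ * a * g) * (g⁻¹ * b * g)⁻¹ := by group
        rw [e1]
        exact isInv_emb hcls _ (hN b) _
      have hnil : IsNilpotent (⟨res N (cj g (emb N z.1)), isCls_iff_mem_center.1 hz'⟩ :
          Subalgebra.center K (MonoidAlgebra K N)) := by
        obtain ⟨n, hn⟩ := hz
        refine ⟨n, Subtype.ext ?_⟩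
        have hn' : z.1 ^ n = 0 := by
          have := congrArg Subtype.val hn
          simpa using this
        apply emb_injective N
        push_cast
        rw [map_pow, cj_emb, ← map_pow, ← map_pow, hn']
        simp
      exact AddSubgroup.subset_closure ⟨⟨res N (cj g (emb N z.1)), isCls_iff_mem_center.1 hz'⟩,
        by rw [pow_one, mem_nilradical]; exact hnil, r • (MonoidAlgebra.single g (1 : K) * w),
        by rw [mul_smul_comm]⟩
  · rw [mul_zero]; exact AddSubgroup.zero_mem _
  · intro x x' _ _ h h'
    rw [mul_add]; exact AddSubgroup.add_mem _ h h'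
  · intro x _ h
    rw [mul_neg]; exact AddSubgroup.neg_mem _ h

theorem T_mul_T {j : ℕ} {x y : MonoidAlgebra K G} (hx : x ∈ T K N j) (hy : y ∈ T K N 1) :
    x * y ∈ T K N (j + 1) := by
  refine AddSubgroup.closure_induction (p := fun x _ => x * y ∈ T K N (j + 1)) ?_ ?_ ?_ ?_ hx
  · rintro x ⟨z, hz, w, rfl⟩
    rw [mul_assoc]
    have h1 : w * y ∈ T K N 1 := mul_T_one N hy w
    refine AddSubgroup.closure_induction (p := fun v _ => emb N z.1 * v ∈ T K N (j + 1))
      ?_ ?_ ?_ ?_ h1
    · rintro v ⟨z', hz', w', rfl⟩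
      refine AddSubgroup.subset_closure ⟨z * z', ?_, w', ?_⟩
      · rw [pow_succ]
        rw [pow_one] at hz'
        exact Ideal.mul_mem_mul hz hz'
      · rw [← mul_assoc, ← map_mul]; rfl
    · rw [mul_zero]; exact AddSubgroup.zero_mem _
    · intro v v' _ _ h h'
      rw [mul_add]; exact AddSubgroup.add_mem _ h h'
    · intro v _ h
      rw [mul_neg]; exact AddSubgroup.neg_mem _ h
  · rw [zero_mul]; exact AddSubgroup.zero_mem _
  · intro x x' _ _ h h'
    rw [add_mul]; exact AddSubgroup.add_mem _ h h'
  · intro x _ h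
    rw [neg_mul]; exact AddSubgroup.neg_mem _ h

/-- An idempotent in `J * K[G]`, `J` the nilradical of the centre of `K[N]`, is zero. -/
theorem eq_zero_of_mem_T {i : MonoidAlgebra K G} (hii : i * i = i) (hi : i ∈ T K N 1) : i = 0 := by
  obtain ⟨m, hm⟩ := isNilpotent_nilradical_center (K := K) (H := N)
  have h1 : ∀ j, i ∈ T K N (j + 1) := by
    intro j
    induction j with
    | zero => exact hi
    | succ j ih => rw [← hii]; exact T_mul_T N ih hi
  have h2 : T K N m ≤ ⊥ := by
    refine (AddSubgroup.closure_le _).2 ?_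
    rintro x ⟨z, hz, w, rfl⟩
    rw [hm] at hz
    have hz0 : z = 0 := by simpa using hz
    rw [hz0]
    simp
  have h3 : T K N (m + 1) ≤ T K N m := by
    refine (AddSubgroup.closure_le _).2 ?_
    rintro x ⟨z, hz, w, rfl⟩
    exact AddSubgroup.subset_closure ⟨z, Ideal.pow_le_pow_right (Nat.le_succ m) hz, w, rfl⟩
  exact AddSubgroup.mem_bot.1 (h2 (h3 (h1 m)))

end Nil

section Main

variable {p : ℕ} {M : Ideal AlgInt} [M.IsPrime] {G : Type*} [Group G] [Finite G]
  (N : Subgroup G) [N.Normal]

/-- The part of `x` supported on the coset `γ` of `N`. -/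
noncomputable def comp {K : Type*} [Field K] (x : MonoidAlgebra K G) (γ : G ⧸ N) :
    MonoidAlgebra K G :=
  open Classical in mkA fun g => if (g : G ⧸ N) = γ then x.coeff g else 0

open Classical in
theorem coeff_comp {K : Type*} [Field K] (x : MonoidAlgebra K G) (γ : G ⧸ N) (g : G) :
    (comp N x γ).coeff g = if (g : G ⧸ N) = γ then x.coeff g else 0 := rfl

theorem sum_comp {K : Type*} [Field K] [Fintype (G ⧸ N)] (x : MonoidAlgebra K G) :
    ∑ γ, comp N x γ = x := by
  classical
  refine ext_coeff fun g => ?_
  rw [MonoidAlgebra.coeff_sum, Finsupp.finsetSum_apply]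
  simp only [coeff_comp]
  rw [Finset.sum_ite_eq]
  simp

/-- Elements supported on a coset. -/
def Supp {K : Type*} [Field K] (γ : G ⧸ N) (x : MonoidAlgebra K G) : Prop :=
  ∀ g : G, (g : G ⧸ N) ≠ γ → x.coeff g = 0

theorem supp_comp {K : Type*} [Field K] (x : MonoidAlgebra K G) (γ : G ⧸ N) :
    Supp N γ (comp N x γ) := by
  intro g hg
  rw [coeff_comp, if_neg hg]

theorem supp_one {K : Type*} [Field K] : Supp N 1 (1 : MonoidAlgebra K G) := by
  classical
  intro g hg
  rw [coeff_one_eq, if_neg]
  rintro rfl
  exact hg rfl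

theorem supp_mul {K : Type*} [Field K] {γ δ : G ⧸ N} {x y : MonoidAlgebra K G}
    (hx : Supp N γ x) (hy : Supp N δ y) : Supp N (γ * δ) (x * y) := by
  have := Fintype.ofFinite G
  intro g hg
  rw [coeff_mul_eq_sum]
  refine Finset.sum_eq_zero fun a _ => ?_
  by_cases ha : (a : G ⧸ N) = γ
  · have h1 : ((a⁻¹ * g : G) : G ⧸ N) ≠ δ := by
      intro h
      apply hg
      rw [← h, ← ha, ← QuotientGroup.mk_mul, mul_inv_cancel_left]
    rw [hy _ h1, mul_zero]
  · rw [hx _ ha, zero_mul]

theorem supp_list_prod {K : Type*} [Field K] (x : MonoidAlgebra K G) (l : List (G ⧸ N)) :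
    Supp N l.prod (l.map (comp N x)).prod := by
  induction l with
  | nil => exact supp_one N
  | cons γ l ih =>
    rw [List.prod_cons, List.map_cons, List.prod_cons]
    exact supp_mul N (supp_comp N x γ) ih

theorem isInv_comp {K : Type*} [Field K] {x : MonoidAlgebra K G} (hx : IsInv N x) (γ : G ⧸ N) :
    IsInv N (comp N x γ) := by
  classical
  intro u hu g
  have h1 : ((u * g * u⁻¹ : G) : G ⧸ N) = (g : G ⧸ N) := by
    rw [QuotientGroup.mk_mul, QuotientGroup.mk_mul, QuotientGroup.mk_inv,
      (QuotientGroup.eq_one_iff u).2 hu]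
    simp
  rw [coeff_comp, coeff_comp, h1, hx u hu g]

theorem isInv_list_prod {K : Type*} [Field K] {x : MonoidAlgebra K G} (hx : IsInv N x)
    (l : List (G ⧸ N)) : IsInv N (l.map (comp N x)).prod := by
  induction l with
  | nil => exact isInv_one N
  | cons γ l ih =>
    rw [List.map_cons, List.prod_cons]
    exact isInv_mul (isInv_comp N hx γ) ih

theorem emb_mul_comp {K : Type*} [Field K] (c : MonoidAlgebra K N) {x : MonoidAlgebra K G}
    (h : emb N c * x = x) (γ : G ⧸ N) : emb N c * comp N x γ = comp N x γ := by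
  classical
  have := Fintype.ofFinite (G ⧸ N)
  have hc : Supp N 1 (emb N c) := by
    intro g hg
    refine coeff_emb_of_notMem c fun h => hg ?_
    exact (QuotientGroup.eq_one_iff g).2 h
  have h1 : ∀ δ, Supp N δ (emb N c * comp N x δ) := by
    intro δ
    have := supp_mul N hc (supp_comp N x δ)
    rwa [one_mul] at this
  refine ext_coeff fun g => ?_
  by_cases hg : (g : G ⧸ N) = γ
  · have h2 : (emb N c * x).coeff g = ∑ δ, (emb N c * comp N x δ).coeff g := by
      conv_lhs => rw [← sum_comp N x, Finset.mul_sum]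
      rw [MonoidAlgebra.coeff_sum, Finsupp.finsetSum_apply]
    rw [Finset.sum_eq_single γ (fun δ _ hδ => h1 δ g (by rw [hg]; exact hδ.symm))
      (fun h => absurd (Finset.mem_univ _) h), h] at h2
    rw [← h2, coeff_comp, if_pos hg]
  · rw [h1 γ g hg, supp_comp N x γ g hg]

/-- **Main lemma.** -/
theorem eq_zero_of_br (hM : IsPModular p M) {Q : Subgroup G} (hQ : IsPGroup p Q) (hQN : Q ≤ N)
    {c : Set (IrrCharacter N)} (hc : IsPBlock M c)
    (hcQ : br (Q.subgroupOf N) (idem M c) ≠ 0) {i : MonoidAlgebra (ResField M) G}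
    (hi : IsInv N i) (hii : i * i = i) (hci : emb N (idem M c) * i = i) (hbr : br Q i = 0) :
    i = 0 := by
  classical
  have : Fact p.Prime := ⟨hM.1⟩
  have := charP_resField hM
  have := Fintype.ofFinite (G ⧸ N)
  have hQ' : IsPGroup p (Q.subgroupOf N) := hQ.comap_subtype
  have hu := isUnion_of_isPBlock hc
  -- a central element of `K[N]` in the ideal of `c` killed by the Brauer map is nilpotent
  have hnil : ∀ s : MonoidAlgebra (ResField M) N, IsCls s → idem M c * s = s →
      br (Q.subgroupOf N) s = 0 → IsNilpotent s := by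
    intro s hs hcs hbs
    refine isNilpotent_of_lam hs fun χ => ?_
    by_cases hχ : χ ∈ c
    · by_contra hne
      obtain ⟨w, hw, hw2⟩ := exists_inv_of_lam hM hs hc hχ hne
      apply hcQ
      rw [← hw2, mul_assoc, br_mul hQ' (isInv_of_isCls hs _)
        (isInv_of_isCls (isCls_mul hw (isCls_idem c)) _), hbs, zero_mul]
    · rw [← hcs, lam_mul χ (isCls_idem c) hs, lam_idem_of_notMem hM hu hχ, zero_mul]
  have hmem : (∑ γ, comp N i γ) ^ (Fintype.card (G ⧸ N)) ∈ T (ResField M) N 1 := by
    refine sum_pow_mem (comp N i) (T (ResField M) N 1) (fun x hx y => mul_T_one N hx y)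
      (fun x hx y => T_mul N hx y) fun l hl hprod => ?_
    set x := (l.map (comp N i)).prod with hx
    have hinv : IsInv N x := isInv_list_prod N hi l
    have hsupp : emb N (res N x) = x := by
      refine emb_res_of_supp fun g hg => ?_
      have := supp_list_prod N i l
      rw [hprod] at this
      exact this g fun h => hg ((QuotientGroup.eq_one_iff g).1 h)
    obtain ⟨γ, l', rfl⟩ : ∃ γ l', l = γ :: l' := by
      cases l with
      | nil => exact absurd rfl hl
      | cons γ l' => exact ⟨γ, l', rfl⟩
    have hx' : x = comp N i γ * (l'.map (comp N i)).prod := by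
      rw [hx, List.map_cons, List.prod_cons]
    have hcx : emb N (idem M c) * x = x := by
      rw [hx', ← mul_assoc, emb_mul_comp N _ hci]
    have hbx : br Q x = 0 := by
      have h1 : br Q (comp N i γ) = 0 := by
        refine ext_coeff fun g => ?_
        have h2 := congrArg (fun z => z.coeff g) hbr
        rw [coeff_br, coeff_comp]
        have h3 : i.coeff (g : G) = 0 := by simpa using h2
        rw [h3]
        simp
      rw [hx', br_mul hQ (isInv_mono hQN (isInv_comp N hi γ))
        (isInv_mono hQN (isInv_list_prod N hi l')), h1, zero_mul]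
    have hcls : IsCls (res N x) := isCls_res hinv
    have hcs : idem M c * res N x = res N x := by
      apply emb_injective N
      rw [map_mul, hsupp, hcx]
    have hbs : br (Q.subgroupOf N) (res N x) = 0 := by
      refine ext_coeff fun g => ?_
      rw [coeff_br, coeff_res]
      have hg : ((g : N) : G) ∈ Subgroup.centralizer (Q : Set G) := by
        rw [Subgroup.mem_centralizer_iff]
        intro q hq
        have h1 := (Subgroup.mem_centralizer_iff.1 g.2) ⟨q, hQN hq⟩
          (by rw [SetLike.mem_coe, Subgroup.mem_subgroupOf]; exact hq)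
        exact congrArg Subtype.val h1
      have h2 := congrArg (fun z => z.coeff ⟨_, hg⟩) hbx
      simpa using h2
    refine AddSubgroup.subset_closure ⟨⟨res N x, isCls_iff_mem_center.1 hcls⟩, ?_, 1, ?_⟩
    · rw [pow_one, mem_nilradical]
      obtain ⟨n, hn⟩ := hnil _ hcls hcs hbs
      refine ⟨n, Subtype.ext ?_⟩
      simpa using hn
    · rw [mul_one, hsupp]
  rw [sum_comp] at hmem
  have hcard : Fintype.card (G ⧸ N) ≠ 0 := Fintype.card_ne_zero
  have hpow : i ^ (Fintype.card (G ⧸ N)) = i := by
    have h1 : ∀ n : ℕ, i ^ (n + 1) = i := by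
      intro n
      induction n with
      | zero => rw [zero_add, pow_one]
      | succ n ih => rw [pow_succ, ih, hii]
    obtain ⟨n, hn⟩ := Nat.exists_eq_succ_of_ne_zero hcard
    rw [hn]
    exact h1 n
  rw [hpow] at hmem
  exact eq_zero_of_mem_T N hii hmem

end Main

end Cfsg.Agent.H648.CoverAlg
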