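import Mathlib
import Cfsg.Agent.H648.CoverAlg
import Cfsg.Agent.S0906
import Cfsg.Agent.S0959
import Cfsg.Agent.S0965

/-!
# Induced blocks, covering and defect groups over the residue field

* `isInducedBlock_iff`, `isInducedBlockIn_iff`: block induction in terms of `lam`.
* `covers_iff_lam`, `covers_iff_idem`: covering of blocks of a normal subgroup.
* `br_idem_ne_zero_iff`: `Br_P (idem B) ≠ 0` iff `P` is conjugate into a defect group of `B`.
* `exists_stable_covered`: **Knorr's theorem**: if `P` is a defect group of `B` and `N` is normal, some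
  `P`-stable block of `N` covered by `B` has defect group `P ∩ N`.
-/

set_option autoImplicit false
set_option linter.unusedSectionVars false

open Cfsg

namespace Cfsg.Agent.H648.Dict

open Cfsg.Agent.H644 Cfsg.Agent.Blocks.Local Cfsg.Agent.Blocks.MinMax
open Cfsg.Agent.Blocks.ConvCentral
open Cfsg.Agent.Blocks.Basic (isPBlock_nonempty isPBlock_mem_iff isPBlock_eq_of_mem
  isPBlock_eq_blockOf isPBlock_sameBlock isPBlock_mem_of_sameBlock isPBlock_blockOf
  mem_blockOf_self)

section Ind

variable {M : Ideal AlgInt} [M.IsPrime] {L : Type*} [Group L] [Finite L]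

open Classical in
/-- The central character of the sum of the elements of a normal subset. -/
theorem lam_ind (ξ : IrrCharacter L) (S : Set L) (hS : ∀ g h : L, h * g * h⁻¹ ∈ S ↔ g ∈ S) :
    MemLocalRing M (∑ᶠ k ∈ S, (ξ : L → ℂ) k / (ξ : L → ℂ) 1) ∧
    lam M (ξ : L → ℂ) (mkA fun k => if k ∈ S then 1 else 0) =
      redC M (∑ᶠ k ∈ S, (ξ : L → ℂ) k / (ξ : L → ℂ) 1) := by
  have := Fintype.ofFinite L
  let f : L → ℂ := fun h => if h ∈ S then 1 else 0
  have hf : IsClassFunction L f := by
    intro h k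
    change (if _ then (1 : ℂ) else 0) = if _ then (1 : ℂ) else 0
    rw [if_congr (hS h k) rfl rfl]
  have hfR : ∀ h, MemLocalRing M (f h) := by
    intro h
    change MemLocalRing M (if _ then (1 : ℂ) else 0)
    split_ifs
    · exact memLocalRing_one
    · exact memLocalRing_zero
  have h1 : (mkA fun k => if k ∈ S then 1 else 0 : MonoidAlgebra (ResField M) L) = toK M f := by
    refine ext_coeff fun h => ?_
    rw [coeff_mkA, coeff_toK]
    change (if _ then (1 : ResField M) else 0) = redC M (if _ then (1 : ℂ) else 0)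
    split_ifs
    · rw [redC_one]
    · rw [redC_zero]
  have h2 : ∑ᶠ k ∈ S, (ξ : L → ℂ) k / (ξ : L → ℂ) 1 = omega (ξ : _ → ℂ) f := by
    rw [omega_def, lin_def, Finset.sum_div, finsum_mem_def, finsum_eq_sum_of_fintype]
    refine Finset.sum_congr rfl fun h _ => ?_
    by_cases hg : h ∈ S
    · rw [Set.indicator_of_mem hg]
      change _ = (if _ then (1 : ℂ) else 0) * _ / _
      rw [if_pos hg, one_mul]
    · rw [Set.indicator_of_notMem hg]
      change _ = (if _ then (1 : ℂ) else 0) * _ / _
      rw [if_neg hg, zero_mul, zero_div]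
  rw [h2, h1, lam_toK ξ.2 hf hfR]
  exact ⟨memLocalRing_omega ξ.2 hf hfR, rfl⟩

theorem memLocalRing_centralChar (χ : IrrCharacter L) (g : L) :
    MemLocalRing M (centralChar (χ : L → ℂ) g) := by
  have := Fintype.ofFinite L
  exact memLocalRing_of_isIntegral (isIntegral_centralChar χ.2 g)

/-- A central element is a combination of class sums. -/
theorem eq_sum_clsSum [Fintype (ConjClasses L)] {x : MonoidAlgebra (ResField M) L}
    (hx : IsCls x) : x = ∑ c : ConjClasses L, x.coeff (crep c) • clsSum M (crep c) := by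
  classical
  refine ext_coeff fun g => ?_
  rw [MonoidAlgebra.coeff_sum, Finsupp.finsetSum_apply,
    Finset.sum_eq_single (ConjClasses.mk g)]
  · rw [MonoidAlgebra.coeff_smul, Finsupp.smul_apply, coeff_clsSum, if_pos (isConj_crep g),
      smul_eq_mul, mul_one]
    obtain ⟨c, hc⟩ := isConj_iff.1 (isConj_crep g)
    rw [← hx (crep (ConjClasses.mk g)) c, hc]
  · intro c _ hc
    rw [MonoidAlgebra.coeff_smul, Finsupp.smul_apply, coeff_clsSum, if_neg, smul_zero]
    intro h
    apply hc
    rw [← mk_crep c]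
    exact ConjClasses.mk_eq_mk_iff_isConj.2 h
  · exact fun h => absurd (Finset.mem_univ _) h

/-- Two linear functionals agreeing on the class sums that meet the support of a central element
agree on this element. -/
theorem eq_of_clsSum {F F' : MonoidAlgebra (ResField M) L →ₗ[ResField M] ResField M}
    {x : MonoidAlgebra (ResField M) L} (hx : IsCls x)
    (h : ∀ g, x.coeff g ≠ 0 → F (clsSum M g) = F' (clsSum M g)) : F x = F' x := by
  classical
  have := Fintype.ofFinite (ConjClasses L)
  rw [eq_sum_clsSum hx, map_sum, map_sum]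
  refine Finset.sum_congr rfl fun c _ => ?_
  rw [map_smul, map_smul]
  by_cases hc : x.coeff (crep c) = 0
  · rw [hc, zero_smul, zero_smul]
  · rw [h _ hc]

end Ind

section Induced

variable {M : Ideal AlgInt} [M.IsPrime] {G : Type*} [Group G] [Finite G]

/-- The class sum restricted to a subgroup, and the induced central character. -/
theorem lam_res_clsSum (H : Subgroup G) (ξ : IrrCharacter H) (g : G) :
    MemLocalRing M (inducedCentralChar H (ξ : H → ℂ) g) ∧
    lam M (ξ : H → ℂ) (res H (clsSum M g)) = redC M (inducedCentralChar H (ξ : H → ℂ) g) := by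
  classical
  have h1 := lam_ind (M := M) ξ {h : H | IsConj g (h : G)} (by
    intro h k
    have h2 : IsConj (h : G) ((k * h * k⁻¹ : H) : G) := isConj_iff.2 ⟨k, rfl⟩
    exact ⟨fun h3 => IsConj.trans h3 h2.symm, fun h3 => IsConj.trans h3 h2⟩)
  rw [Cfsg.Agent.Blocks.Basic.inducedCentralChar_def]
  refine ⟨h1.1, ?_⟩
  rw [← h1.2]
  congr 1

/-- Block induction in terms of central characters over the residue field. -/
theorem isInducedBlock_iff {H : Subgroup G} {b : Set (IrrCharacter H)} {B : Set (IrrCharacter G)} :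
    IsInducedBlock M H b B ↔ IsPBlock M b ∧ IsPBlock M B ∧ ∀ ξ ∈ b, ∀ χ ∈ B,
      ∀ x : MonoidAlgebra (ResField M) G, IsCls x →
        lam M (ξ : H → ℂ) (res H x) = lam M (χ : G → ℂ) x := by
  constructor
  · rintro ⟨hb, hB, h⟩
    refine ⟨hb, hB, fun ξ hξ χ hχ x hx => ?_⟩
    refine eq_of_clsSum (F := (lam M (ξ : H → ℂ)).comp (res H)) (F' := lam M (χ : G → ℂ)) hx
      fun g _ => ?_
    rw [LinearMap.comp_apply, (lam_res_clsSum H ξ g).2, lam_clsSum,
      redC_eq_iff (lam_res_clsSum H ξ g).1 (memLocalRing_centralChar χ g)]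
    exact h ξ hξ χ hχ g
  · rintro ⟨hb, hB, h⟩
    refine ⟨hb, hB, fun ξ hξ χ hχ g => ?_⟩
    have h1 := h ξ hξ χ hχ (clsSum M g) (isCls_clsSum g)
    rwa [(lam_res_clsSum H ξ g).2, lam_clsSum,
      redC_eq_iff (lam_res_clsSum H ξ g).1 (memLocalRing_centralChar χ g)] at h1

/-- One pair of characters suffices for testing block induction. -/
theorem isInducedBlock_of_mem {H : Subgroup G} {b : Set (IrrCharacter H)}
    {B : Set (IrrCharacter G)} (hb : IsPBlock M b) (hB : IsPBlock M B) {ξ : IrrCharacter H}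
    (hξ : ξ ∈ b) {χ : IrrCharacter G} (hχ : χ ∈ B)
    (h : ∀ x : MonoidAlgebra (ResField M) G, IsCls x →
        lam M (ξ : H → ℂ) (res H x) = lam M (χ : G → ℂ) x) : IsInducedBlock M H b B :=
  isInducedBlock_iff.2 ⟨hb, hB, fun ξ' hξ' χ' hχ' x hx => by
    rw [lam_eq_of_mem hb hξ' hξ, lam_eq_of_mem hB hχ' hχ, h x hx]⟩

/-- The induced block is unique. -/
theorem isInducedBlock_unique {H : Subgroup G} {b : Set (IrrCharacter H)}
    {B B' : Set (IrrCharacter G)} (h : IsInducedBlock M H b B) (h' : IsInducedBlock M H b B') :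
    B = B' := by
  rw [isInducedBlock_iff] at h h'
  obtain ⟨ξ, hξ⟩ := isPBlock_nonempty h.1
  obtain ⟨χ, hχ⟩ := isPBlock_nonempty h.2.1
  obtain ⟨χ', hχ'⟩ := isPBlock_nonempty h'.2.1
  have h1 : SameBlock M (χ : G → ℂ) (χ' : G → ℂ) := by
    intro g
    rw [← redC_eq_iff (memLocalRing_centralChar χ g) (memLocalRing_centralChar χ' g),
      ← lam_clsSum, ← lam_clsSum, ← h.2.2 ξ hξ χ hχ _ (isCls_clsSum g),
      h'.2.2 ξ hξ χ' hχ' _ (isCls_clsSum g)]
  exact Cfsg.Agent.Blocks.Basic.isPBlock_eq_of_sameBlock h.2.1 h'.2.1 hχ hχ' h1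

theorem lam_resIn_clsSum {H K : Subgroup G} (hKH : K ≤ H) (ξ : IrrCharacter K) (h : H) :
    MemLocalRing M (inducedCentralCharIn H K (ξ : K → ℂ) (h : G)) ∧
    lam M (ξ : K → ℂ) (res K (emb H (clsSum M h))) =
      redC M (inducedCentralCharIn H K (ξ : K → ℂ) (h : G)) := by
  classical
  have hset : ∀ k : K, (∃ x : H, (x : G) * (k : G) * (x : G)⁻¹ = h) ↔
      IsConj h (⟨k, hKH k.2⟩ : H) := by
    intro k
    rw [isConj_comm, isConj_iff]
    constructor
    · rintro ⟨x, hx⟩
      exact ⟨x, Subtype.ext hx⟩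
    · rintro ⟨x, hx⟩
      exact ⟨x, congrArg Subtype.val hx⟩
  have h1 := lam_ind (M := M) ξ {k : K | ∃ x : H, (x : G) * (k : G) * (x : G)⁻¹ = h} (by
    intro k l
    change (∃ x : H, (x : G) * ((l * k * l⁻¹ : K) : G) * (x : G)⁻¹ = h) ↔
      ∃ x : H, (x : G) * (k : G) * (x : G)⁻¹ = h
    rw [hset, hset]
    have h2 : IsConj (⟨k, hKH k.2⟩ : H) (⟨((l * k * l⁻¹ : K) : G), hKH (l * k * l⁻¹).2⟩ : H) :=
      isConj_iff.2 ⟨⟨l, hKH l.2⟩, rfl⟩
    exact ⟨fun h3 => IsConj.trans h3 h2.symm, fun h3 => IsConj.trans h3 h2⟩)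
  unfold inducedCentralCharIn
  refine ⟨h1.1, ?_⟩
  rw [← h1.2]
  congr 1
  refine ext_coeff fun k => ?_
  rw [coeff_res, coeff_emb_of_mem _ (hKH k.2), coeff_clsSum, coeff_mkA]
  refine if_congr ?_ rfl rfl
  exact (hset k).symm

/-- Block induction inside an intermediate subgroup. -/
theorem isInducedBlockIn_iff {H K : Subgroup G} (hKH : K ≤ H) {e : Set (IrrCharacter K)}
    {f : Set (IrrCharacter H)} :
    IsInducedBlockIn M H K e f ↔ IsPBlock M e ∧ IsPBlock M f ∧ ∀ ξ ∈ e, ∀ χ ∈ f,
      ∀ x : MonoidAlgebra (ResField M) H, IsCls x →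
        lam M (ξ : K → ℂ) (res K (emb H x)) = lam M (χ : H → ℂ) x := by
  constructor
  · rintro ⟨hb, hB, h⟩
    refine ⟨hb, hB, fun ξ hξ χ hχ x hx => ?_⟩
    refine eq_of_clsSum (F := (lam M (ξ : K → ℂ)).comp ((res K).comp (emb H).toLinearMap))
      (F' := lam M (χ : H → ℂ)) hx fun g _ => ?_
    rw [LinearMap.comp_apply, LinearMap.comp_apply, AlgHom.toLinearMap_apply,
      (lam_resIn_clsSum hKH ξ g).2, lam_clsSum,
      redC_eq_iff (lam_resIn_clsSum hKH ξ g).1 (memLocalRing_centralChar χ g)]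
    exact h ξ hξ χ hχ g
  · rintro ⟨hb, hB, h⟩
    refine ⟨hb, hB, fun ξ hξ χ hχ g => ?_⟩
    have h1 := h ξ hξ χ hχ (clsSum M g) (isCls_clsSum g)
    rwa [(lam_resIn_clsSum hKH ξ g).2, lam_clsSum,
      redC_eq_iff (lam_resIn_clsSum hKH ξ g).1 (memLocalRing_centralChar χ g)] at h1

end Induced

section Cover

variable {p : ℕ} {M : Ideal AlgInt} [M.IsPrime] {G : Type*} [Group G] [Finite G]
  (N : Subgroup G) [hN : N.Normal]

/-- `B` covers `c`. -/
def Covers [Fintype N] (B : Set (IrrCharacter G)) (c : Set (IrrCharacter N)) : Prop :=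
  ∃ χ ∈ B, ∃ θ ∈ c, classInner (fun n : N => (χ : G → ℂ) n) (θ : N → ℂ) ≠ 0

/-- Covering in terms of central characters (Passman). -/
theorem covers_iff_lam [Fact p.Prime] (hM : IsPModular p M) [Fintype N]
    {B : Set (IrrCharacter G)} (hB : IsPBlock M B) {c : Set (IrrCharacter N)}
    (hc : IsPBlock M c) : Covers N B c ↔ ∀ χ ∈ B, ∀ θ ∈ c,
      ∀ x : MonoidAlgebra (ResField M) G, IsCls x → (∀ g, g ∉ N → x.coeff g = 0) →
        lam M (χ : G → ℂ) x = lam M (θ : N → ℂ) (res N x) := by
  classical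
  have := Fintype.ofFinite G
  rw [Covers, Cfsg.Agent.S0965.result p M hM N B hB c hc]
  constructor
  · intro h χ hχ θ hθ x hx hsupp
    refine eq_of_clsSum (F := lam M (χ : G → ℂ)) (F' := (lam M (θ : N → ℂ)).comp (res N)) hx
      fun g hg => ?_
    have hgN : g ∈ N := by
      by_contra hgN
      exact hg (hsupp g hgN)
    rw [LinearMap.comp_apply, (lam_res_clsSum N θ g).2, lam_clsSum,
      redC_eq_iff (memLocalRing_centralChar χ g) (lam_res_clsSum N θ g).1]
    exact h χ hχ θ hθ ⟨g, hgN⟩
  · intro h χ hχ θ hθ n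
    have h1 := h χ hχ θ hθ (clsSum M (n : G)) (isCls_clsSum _) (by
      intro g hg
      rw [coeff_clsSum, if_neg]
      intro hc
      obtain ⟨x, hx⟩ := isConj_iff.1 hc
      exact hg (hx ▸ hN.conj_mem _ n.2 x))
    rwa [(lam_res_clsSum N θ n).2, lam_clsSum,
      redC_eq_iff (memLocalRing_centralChar χ _) (lam_res_clsSum N θ n).1] at h1

theorem mem_conj_iff (g n : G) : n ∈ N ↔ g * n * g⁻¹ ∈ N :=
  ⟨fun h => hN.conj_mem n h g, fun h => by
    have := hN.conj_mem _ h g⁻¹
    simpa [mul_assoc] using this⟩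

/-- Conjugate of a set of irreducible characters of a normal subgroup. -/
noncomputable def conjN (g : G) (c : Set (IrrCharacter N)) : Set (IrrCharacter N) :=
  irrMap (cjE g N N (mem_conj_iff N g)) '' c

theorem emb_idem_conjN (g : G) (c : Set (IrrCharacter N)) :
    emb N (idem M (conjN N g c)) = cj g (emb N (idem M c)) :=
  emb_idem_irrMap g N N (mem_conj_iff N g) c

theorem isPBlock_conjN (g : G) {c : Set (IrrCharacter N)} (hc : IsPBlock M c) :
    IsPBlock M (conjN N g c) := isPBlock_irrMap hc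

theorem irrMap_cjE_apply (g : G) (θ : IrrCharacter N) (n : N) :
    (irrMap (cjE g N N (mem_conj_iff N g)) θ : N → ℂ) n =
      (θ : N → ℂ) ⟨g⁻¹ * n * g, (mem_conj_iff N g _).2 (by simpa [mul_assoc] using n.2)⟩ := rfl

theorem irrMap_cjE_cjE (g h : G) (θ : IrrCharacter N) :
    irrMap (cjE g N N (mem_conj_iff N g)) (irrMap (cjE h N N (mem_conj_iff N h)) θ) =
      irrMap (cjE (g * h) N N (mem_conj_iff N (g * h))) θ := by
  apply Subtype.ext
  funext n
  rw [irrMap_cjE_apply, irrMap_cjE_apply, irrMap_cjE_apply]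
  refine congrArg (θ : N → ℂ) (Subtype.ext ?_)
  simp only
  group

theorem irrMap_cjE_one (θ : IrrCharacter N) :
    irrMap (cjE (1 : G) N N (mem_conj_iff N 1)) θ = θ := by
  apply Subtype.ext
  funext n
  rw [irrMap_cjE_apply]
  refine congrArg (θ : N → ℂ) (Subtype.ext ?_)
  simp

theorem conjN_conjN (g h : G) (c : Set (IrrCharacter N)) :
    conjN N g (conjN N h c) = conjN N (g * h) c := by
  rw [conjN, conjN, conjN, Set.image_image]
  exact Set.image_congr fun θ _ => irrMap_cjE_cjE N g h θ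

theorem conjN_one (c : Set (IrrCharacter N)) : conjN N 1 c = c := by
  rw [conjN]
  have : irrMap (cjE (1 : G) N N (mem_conj_iff N 1)) = Equiv.refl (IrrCharacter N) := by
    ext1 θ
    exact irrMap_cjE_one N θ
  rw [this]
  simp

/-- The union of the conjugates of a block. -/
def orb (c : Set (IrrCharacter N)) : Set (IrrCharacter N) := {θ | ∃ g : G, θ ∈ conjN N g c}

theorem isUnion_orb {c : Set (IrrCharacter N)} (hc : IsPBlock M c) : IsUnion M (orb N c) := by
  rintro θ ⟨g, hg⟩ ψ h
  exact ⟨g, isUnion_of_isPBlock (isPBlock_conjN N g hc) θ hg ψ h⟩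

theorem conjN_orb (g : G) (c : Set (IrrCharacter N)) : conjN N g (orb N c) = orb N c := by
  ext θ
  constructor
  · rintro ⟨ψ, ⟨h, hh⟩, rfl⟩
    refine ⟨g * h, ?_⟩
    rw [← conjN_conjN]
    exact ⟨ψ, hh, rfl⟩
  · rintro ⟨h, hh⟩
    have h1 : θ ∈ conjN N g (conjN N g⁻¹ (conjN N h c)) := by
      rw [conjN_conjN, mul_inv_cancel, conjN_one]
      exact hh
    obtain ⟨ψ, hψ, hψ2⟩ := h1
    refine ⟨ψ, ⟨g⁻¹ * h, ?_⟩, hψ2⟩
    rw [← conjN_conjN]
    exact hψ

theorem isCls_emb_idem_orb (c : Set (IrrCharacter N)) : IsCls (emb N (idem M (orb N c))) := by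
  rw [isCls_iff_isInv_top, isInv_iff_cj]
  intro g _
  rw [← emb_idem_conjN, conjN_orb]

theorem emb_idem_supp (c : Set (IrrCharacter N)) {g : G} (hg : g ∉ N) :
    (emb N (idem M c)).coeff g = 0 := coeff_emb_of_notMem _ hg

/-- Eigenvalue argument. -/
theorem eq_zero_of_pow {K A : Type*} [Field K] [Ring A] [Algebra K A] {x i : A} {a b : K}
    (hab : a ≠ b) {n m : ℕ} (h1 : (x - algebraMap K A a) ^ n * i = 0)
    (h2 : (x - algebraMap K A b) ^ m * i = 0) : i = 0 := by
  have h3 : IsCoprime ((Polynomial.X - Polynomial.C a) ^ n : Polynomial K)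
      ((Polynomial.X - Polynomial.C b) ^ m) :=
    (Polynomial.isCoprime_X_sub_C_of_isUnit_sub (sub_ne_zero.2 hab).isUnit).pow
  obtain ⟨u, v, huv⟩ := h3
  have h4 := congrArg (Polynomial.aeval x) huv
  simp only [map_add, map_mul, map_pow, map_sub, Polynomial.aeval_X, Polynomial.aeval_C,
    map_one] at h4
  calc i = 1 * i := (one_mul i).symm
    _ = 0 := by rw [← h4, add_mul, mul_assoc, mul_assoc, h1, h2]; simp

/-- Covering in terms of idempotents. -/
theorem covers_iff_idem [Fact p.Prime] (hM : IsPModular p M) [Fintype N]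
    {B : Set (IrrCharacter G)} (hB : IsPBlock M B) {c : Set (IrrCharacter N)}
    (hc : IsPBlock M c) : Covers N B c ↔ idem M B * emb N (idem M c) ≠ 0 := by
  classical
  have hUB := isUnion_of_isPBlock hB
  have hUc := isUnion_of_isPBlock hc
  constructor
  · intro hcov h0
    rw [covers_iff_lam N hM hB hc] at hcov
    obtain ⟨χ, hχ⟩ := isPBlock_nonempty hB
    obtain ⟨θ, hθ⟩ := isPBlock_nonempty hc
    have hθorb : θ ∈ orb N c := ⟨1, by rw [conjN_one]; exact hθ⟩
    have hUo := isUnion_orb N hc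
    have h1 : lam M (χ : G → ℂ) (emb N (idem M (orb N c))) = 1 := by
      rw [hcov χ hχ θ hθ _ (isCls_emb_idem_orb N c) fun g hg => emb_idem_supp N _ hg, res_emb,
        lam_idem_of_mem hM hUo hθorb]
    have h2 : emb N (idem M (orb N c)) * idem M B = idem M B := by
      refine mul_idem_of_lam_eq_one hM (isCls_emb_idem_orb N c) ?_ hUB fun χ' hχ' => ?_
      · rw [← map_mul, idem_mul_self hM hUo]
      · rw [lam_eq_of_mem hB hχ' hχ, h1]
    have h3 : ∀ g : G, idem M B * emb N (idem M (conjN N g c)) = 0 := by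
      intro g
      rw [emb_idem_conjN, ← cj_of_isCls (isCls_idem (M := M) B) g, ← map_mul, h0, map_zero]
    have := Fintype.ofFinite (Blk M N)
    have h4 : ∀ c' : Blk M N, idem M B * emb N (idem M (orb N c)) * emb N (idem M c'.1) = 0 := by
      intro c'
      rw [mul_assoc, ← map_mul, idem_mul_idem hM hUo (isUnion_of_isPBlock c'.2)]
      by_cases hne : (orb N c ∩ c'.1).Nonempty
      · obtain ⟨ψ, ⟨g, hg⟩, hψ⟩ := hne
        have h5 : c'.1 = conjN N g c := isPBlock_eq_of_mem c'.2 (isPBlock_conjN N g hc) hψ hg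
        have h6 : orb N c ∩ c'.1 = conjN N g c := by
          rw [h5]
          ext ψ'
          exact ⟨fun h => h.2, fun h => ⟨⟨g, h⟩, h⟩⟩
        rw [h6, h3]
      · rw [Set.not_nonempty_iff_eq_empty.1 hne, idem_empty, map_zero, mul_zero]
    have h5 : idem M B = 0 := by
      calc idem M B = idem M B * emb N (idem M (orb N c)) := by
            rw [isCls_comm (isCls_idem B), h2]
        _ = idem M B * emb N (idem M (orb N c)) * ∑ c' : Blk M N, emb N (idem M c'.1) := by
            rw [← map_sum, sum_idem_eq_one hM, map_one, mul_one]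
        _ = 0 := by rw [Finset.mul_sum]; exact Finset.sum_eq_zero fun c' _ => h4 c'
    exact idem_ne_zero hM hUB ⟨χ, hχ⟩ h5
  · intro hne
    rw [covers_iff_lam N hM hB hc]
    intro χ hχ θ hθ x hx hsupp
    by_contra hab
    apply hne
    have hxN : emb N (res N x) = x := CoverAlg.emb_res_of_supp hsupp
    have hres : IsCls (res N x) := isCls_res (isInv_of_isCls hx N)
    refine eq_zero_of_pow (x := x) hab (n := Nat.card (IrrCharacter G))
      (m := Nat.card (IrrCharacter N)) ?_ ?_
    · rw [← mul_assoc]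
      have h1 : (x - algebraMap (ResField M) _ (lam M (χ : G → ℂ) x)) ^
          Nat.card (IrrCharacter G) * idem M B = 0 := by
        refine mul_idem_pow_eq_zero hM ?_ hUB fun χ' hχ' => ?_
        · refine isCls_sub hx ?_
          rw [Algebra.algebraMap_eq_smul_one]
          exact isCls_smul isCls_one _
        · rw [map_sub, Algebra.algebraMap_eq_smul_one, map_smul, lam_one,
            lam_eq_of_mem hB hχ' hχ, smul_eq_mul, mul_one, sub_self]
      rw [h1, zero_mul]
    · have h1 : (res N x - algebraMap (ResField M) _ (lam M (θ : N → ℂ) (res N x))) ^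
          Nat.card (IrrCharacter N) * idem M c = 0 := by
        refine mul_idem_pow_eq_zero hM ?_ hUc fun χ' hχ' => ?_
        · refine isCls_sub hres ?_
          rw [Algebra.algebraMap_eq_smul_one]
          exact isCls_smul isCls_one _
        · rw [map_sub, Algebra.algebraMap_eq_smul_one, map_smul, lam_one,
            lam_eq_of_mem hc hχ' hθ, smul_eq_mul, mul_one, sub_self]
      have h2 := congrArg (emb N) h1
      rw [map_mul, map_pow, map_sub, hxN, map_zero, AlgHom.commutes] at h2
      rw [isCls_comm (isCls_idem B), ← mul_assoc, h2, zero_mul]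

/-- Existence of defect groups. -/
theorem exists_isDefectGroup [Fact p.Prime] (hM : IsPModular p M) {B : Set (IrrCharacter G)}
    (hB : IsPBlock M B) : ∃ D : Subgroup G, IsDefectGroup p M B D := by
  obtain ⟨g, hg⟩ := Cfsg.Agent.S0906.result p M hM B hB
  obtain ⟨S⟩ : Nonempty (Sylow p (Subgroup.centralizer ({g} : Set G))) := inferInstance
  exact ⟨_, g, hg, S, rfl⟩

/-- `Br_P (idem B) ≠ 0` iff `P` is conjugate into the defect group `D`. -/
theorem br_idem_ne_zero_iff [Fact p.Prime] (hM : IsPModular p M) {B : Set (IrrCharacter G)}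
    (hB : IsPBlock M B) {D : Subgroup G} (hD : IsDefectGroup p M B D) {P : Subgroup G}
    (hP : IsPGroup p P) :
    br P (idem M B) ≠ 0 ↔ ∃ x : G, P.map (MulAut.conj x).toMonoidHom ≤ D := by
  rw [← Cfsg.Agent.S0959.result p M hM B hB D hD P hP]
  have hR : ∀ g, MemLocalRing M (blockCoeff B g) :=
    memLocalRing_blockCoeff hM (isUnion_of_isPBlock hB)
  constructor
  · intro h
    by_contra hcon
    apply h
    refine ext_coeff fun g => ?_
    rw [coeff_br, coeff_idem]
    by_contra hne
    refine hcon ⟨g, hR g, fun h1 => hne ?_, g, IsConj.refl _, g.2⟩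
    rw [(redC_eq_zero_iff (hR g)).2 h1]
    rfl
  · rintro ⟨g, -, hg, c, hgc, hcP⟩ h
    apply hg
    have h1 := congrArg (fun z => z.coeff ⟨c, hcP⟩) h
    have h2 : redC M (blockCoeff B c) = 0 := by rw [← coeff_idem]; simpa using h1
    rw [redC_eq_zero_iff (hR c), ← Cfsg.Agent.Blocks.Basic.blockCoeff_isConj B hgc] at h2
    exact h2

theorem map_conj_one (D : Subgroup G) : D.map (MulAut.conj (1 : G)).toMonoidHom = D := by
  ext g
  constructor
  · rintro ⟨x, hx, rfl⟩
    simpa using hx
  · intro hg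
    exact ⟨g, hg, by simp⟩

theorem br_idem_ne_zero [Fact p.Prime] (hM : IsPModular p M) {B : Set (IrrCharacter G)}
    (hB : IsPBlock M B) {D : Subgroup G} (hD : IsDefectGroup p M B D) : br D (idem M B) ≠ 0 :=
  (br_idem_ne_zero_iff hM hB hD (Cfsg.Agent.Blocks.Basic.isPGroup_of_isDefectGroup hD)).2
    ⟨1, (map_conj_one D).le⟩

/-- A subgroup of the right order at which the Brauer map does not kill the idempotent is a defect
group. -/
theorem isDefectGroup_of_card [Fact p.Prime] (hM : IsPModular p M) {B : Set (IrrCharacter G)}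
    (hB : IsPBlock M B) {D : Subgroup G} (hD : IsDefectGroup p M B D) {P : Subgroup G}
    (hP : IsPGroup p P) (h : br P (idem M B) ≠ 0) (hcard : Nat.card D ≤ Nat.card P) :
    IsDefectGroup p M B P := by
  obtain ⟨x, hx⟩ := (br_idem_ne_zero_iff hM hB hD hP).1 h
  have h1 : Nat.card (P.map (MulAut.conj x).toMonoidHom : Subgroup G) = Nat.card P :=
    Nat.card_congr (P.equivMapOfInjective _ (MulAut.conj x).injective).symm.toEquiv
  have h2 : P.map (MulAut.conj x).toMonoidHom = D :=
    Subgroup.eq_of_le_of_card_ge hx (by rw [h1]; exact hcard)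
  have h3 := Cfsg.Agent.Blocks.Basic.isDefectGroup_conj hD x⁻¹
  rwa [← h2, Cfsg.Agent.Blocks.Basic.map_conj_map_conj, inv_mul_cancel, map_conj_one] at h3

theorem card_eq_of_isDefectGroup [Fact p.Prime] (hM : IsPModular p M) {B : Set (IrrCharacter G)}
    (hB : IsPBlock M B) {D D' : Subgroup G} (hD : IsDefectGroup p M B D)
    (hD' : IsDefectGroup p M B D') : Nat.card D = Nat.card D' := by
  have key : ∀ {D D' : Subgroup G}, IsDefectGroup p M B D → IsDefectGroup p M B D' →
      Nat.card D ≤ Nat.card D' := by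
    intro D D' hD hD'
    obtain ⟨x, hx⟩ := (br_idem_ne_zero_iff hM hB hD'
      (Cfsg.Agent.Blocks.Basic.isPGroup_of_isDefectGroup hD)).1 (br_idem_ne_zero hM hB hD)
    have h1 : Nat.card (D.map (MulAut.conj x).toMonoidHom : Subgroup G) = Nat.card D :=
      Nat.card_congr (D.equivMapOfInjective _ (MulAut.conj x).injective).symm.toEquiv
    rw [← h1]
    exact Subgroup.card_le_of_le hx
  exact le_antisymm (key hD hD') (key hD' hD)

/-- If `B` covers `c`, the Brauer map at a defect group of `c` does not kill `B`. -/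
theorem br_ne_zero_of_covers [Fact p.Prime] (hM : IsPModular p M) {B : Set (IrrCharacter G)}
    (hB : IsPBlock M B) {c : Set (IrrCharacter N)} (hc : IsPBlock M c)
    (hcov : idem M B * emb N (idem M c) ≠ 0) {Q : Subgroup G} (hQ : IsPGroup p Q) (hQN : Q ≤ N)
    (hcQ : br (Q.subgroupOf N) (idem M c) ≠ 0) : br Q (idem M B) ≠ 0 := by
  have := charP_resField hM
  intro h
  apply hcov
  have hinv : IsInv N (emb N (idem M c)) := isInv_emb (isCls_idem c)
  have hee : emb N (idem M c) * emb N (idem M c) = emb N (idem M c) := by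
    rw [← map_mul, idem_mul_self hM (isUnion_of_isPBlock hc)]
  have hcomm : idem M B * emb N (idem M c) = emb N (idem M c) * idem M B :=
    isCls_comm (isCls_idem B) _
  refine CoverAlg.eq_zero_of_br N hM hQ hQN hc hcQ (isInv_mul (isInv_of_isCls (isCls_idem B) N)
    hinv) ?_ ?_ ?_
  · calc idem M B * emb N (idem M c) * (idem M B * emb N (idem M c))
        = idem M B * (emb N (idem M c) * idem M B) * emb N (idem M c) := by
          simp only [mul_assoc]
      _ = (idem M B * idem M B) * (emb N (idem M c) * emb N (idem M c)) := by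
          rw [← hcomm]; simp only [mul_assoc]
      _ = _ := by rw [hee, idem_mul_self hM (isUnion_of_isPBlock hB)]
  · rw [← mul_assoc, ← hcomm, mul_assoc, hee]
  · rw [br_mul hQ (isInv_of_isCls (isCls_idem B) Q) (isInv_mono hQN hinv), h, zero_mul]

/-- The Brauer map in `N` and in `G`. -/
theorem br_emb_eq_zero {P : Subgroup G} {x : MonoidAlgebra (ResField M) N}
    (h : br ((P ⊓ N).subgroupOf N) x = 0) : br P (emb N x) = 0 := by
  refine ext_coeff fun g => ?_
  rw [coeff_br]
  by_cases hg : (g : G) ∈ N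
  · have h1 : (⟨g, hg⟩ : N) ∈ Subgroup.centralizer ((P ⊓ N).subgroupOf N : Set N) := by
      rw [Subgroup.mem_centralizer_iff]
      intro q hq
      rw [SetLike.mem_coe, Subgroup.mem_subgroupOf] at hq
      exact Subtype.ext ((Subgroup.mem_centralizer_iff.1 g.2) _ hq.1)
    have h2 := congrArg (fun z => z.coeff ⟨_, h1⟩) h
    rw [coeff_emb_of_mem _ hg]
    simpa using h2
  · rw [coeff_emb_of_notMem _ hg]
    simp

/-- **Knorr's theorem**: if `P` is a defect group of `B` and `N` is normal, some `P`-stable block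
of `N` covered by `B` has defect group `P ∩ N`. -/
theorem exists_stable_covered [Fact p.Prime] (hM : IsPModular p M) [Fintype N]
    {B : Set (IrrCharacter G)} (hB : IsPBlock M B) {P : Subgroup G}
    (hP : IsDefectGroup p M B P) :
    ∃ c : Set (IrrCharacter N), IsPBlock M c ∧ IsInv P (emb N (idem M c)) ∧ Covers N B c ∧
      IsDefectGroup p M c ((P ⊓ N).subgroupOf N) := by
  classical
  have := charP_resField hM
  have hPp : IsPGroup p P := Cfsg.Agent.Blocks.Basic.isPGroup_of_isDefectGroup hP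
  have hBne := br_idem_ne_zero hM hB hP
  -- a `P`-stable block with nonzero Brauer image
  obtain ⟨c, hc, hinv, hne⟩ : ∃ c : Set (IrrCharacter N), IsPBlock M c ∧
      IsInv P (emb N (idem M c)) ∧ br P (idem M B * emb N (idem M c)) ≠ 0 := by
    obtain ⟨ξ, hξ⟩ := exists_lam_eq_one (M := M) (isCls_br_of_isCls (P := P)
      (isCls_idem (M := M) B)) (by
        rw [← br_mul hPp (isInv_of_isCls (isCls_idem B) P) (isInv_of_isCls (isCls_idem B) P),
          idem_mul_self hM (isUnion_of_isPBlock hB)]) hBne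
    have hPL : P ≤ Subgroup.normalizer (N : Set G) := by
      rw [Subgroup.normalizer_eq_top]; exact le_top
    have := Fintype.ofFinite (Blk M N)
    let act0 := blkAction M N
    let act : MulAction P (Blk M N) := MulAction.compHom _ (Subgroup.inclusion hPL)
    have hsmul : ∀ (u : P) (B : Blk M N),
        emb N (idem M (u • B).1) = cj (u : G) (emb N (idem M B.1)) := by
      intro u B
      exact emb_idem_irrMap (u : G) N N (mem_iff_conj_mem_of_mem_normalizer (hPL u.2)) B.1
    set F : Blk M N → ResField M := fun c =>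
      lam M (ξ : Subgroup.centralizer (P : Set G) → ℂ) (br P (idem M B * emb N (idem M c.1)))
      with hF
    have hFinv : ∀ (u : P) (c : Blk M N), F (u • c) = F c := by
      intro u c
      simp only [hF]
      rw [hsmul, ← cj_of_isCls (isCls_idem (M := M) B) (u : G), ← map_mul, br_cj u.2,
        cj_of_isCls (isCls_idem (M := M) B) (u : G)]
    have hsum : ∑ c, F c = 1 := by
      simp only [hF]
      rw [← map_sum, ← map_sum, ← Finset.mul_sum, ← map_sum, sum_idem_eq_one hM, map_one,
        mul_one, hξ]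
    obtain ⟨a, ha⟩ := Cfsg.Agent.Blocks.OrbitSum.sum_eq_sum_fixed_add_smul hPp F hFinv
    rw [hsum, nsmul_eq_mul, CharP.cast_eq_zero, zero_mul, add_zero] at ha
    obtain ⟨c, hc, hFc⟩ := Finset.exists_ne_zero_of_sum_ne_zero (ha ▸ one_ne_zero)
    have hfix : ∀ u : P, u • c = c := (Finset.mem_filter.1 hc).2
    refine ⟨c.1, c.2, ?_, fun h => hFc ?_⟩
    · rw [isInv_iff_cj]
      intro u hu
      rw [← hsmul ⟨u, hu⟩ c, hfix ⟨u, hu⟩]
    · simp only [hF]
      rw [h, map_zero]
  have hcov : idem M B * emb N (idem M c) ≠ 0 := fun h => hne (by rw [h, map_zero])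
  refine ⟨c, hc, hinv, (covers_iff_idem N hM hB hc).2 hcov, ?_⟩
  -- `P ∩ N` is contained in a defect group of `c`
  have h1 : br P (emb N (idem M c)) ≠ 0 := by
    intro h
    apply hne
    rw [br_mul hPp (isInv_of_isCls (isCls_idem B) P) hinv, h, mul_zero]
  have h2 : br ((P ⊓ N).subgroupOf N) (idem M c) ≠ 0 := fun h => h1 (br_emb_eq_zero N h)
  have hPN : IsPGroup p ((P ⊓ N).subgroupOf N) :=
    (isPGroup_of_le hPp inf_le_left).comap_subtype
  obtain ⟨D, hD⟩ := exists_isDefectGroup hM hc
  refine isDefectGroup_of_card hM hc hD hPN h2 ?_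
  -- the reverse inequality
  have hDp := Cfsg.Agent.Blocks.Basic.isPGroup_of_isDefectGroup hD
  set Q : Subgroup G := D.map N.subtype with hQ
  have hQN : Q ≤ N := Subgroup.map_subtype_le D
  have hQsub : Q.subgroupOf N = D := by
    rw [hQ]
    exact Subgroup.comap_map_eq_self_of_injective N.subtype_injective D
  have hQp : IsPGroup p Q := hDp.map _
  have h3 := br_ne_zero_of_covers N hM hB hc hcov hQp hQN (by
    rw [hQsub]; exact br_idem_ne_zero hM hc hD)
  obtain ⟨x, hx⟩ := (br_idem_ne_zero_iff hM hB hP hQp).1 h3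
  have h4 : Q.map (MulAut.conj x).toMonoidHom ≤ P ⊓ N := by
    refine le_inf hx ?_
    rintro _ ⟨q, hq, rfl⟩
    exact hN.conj_mem q (hQN hq) x
  have h5 : Nat.card (Q.map (MulAut.conj x).toMonoidHom : Subgroup G) = Nat.card Q :=
    Nat.card_congr (Q.equivMapOfInjective _ (MulAut.conj x).injective).symm.toEquiv
  have h6 : Nat.card Q = Nat.card D :=
    Nat.card_congr (D.equivMapOfInjective _ N.subtype_injective).symm.toEquiv
  have h7 : Nat.card ((P ⊓ N).subgroupOf N) = Nat.card (P ⊓ N : Subgroup G) :=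
    Nat.card_congr (Subgroup.subgroupOfEquivOfLe inf_le_right).toEquiv
  rw [h7, ← h6, ← h5]
  exact Subgroup.card_le_of_le h4

end Cover

end Cfsg.Agent.H648.Dict
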