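import Mathlib
import Cfsg.Agent.H622.Star
import Cfsg.Agent.H591.Reynolds
import Cfsg.Agent.CharactersDeep.CosetAverage
import Cfsg.Agent.CharDeep.CliffordCorr
import Cfsg.Agent.Characters.Counting
import Cfsg.Agent.S0886

/-!
# Characters over an invariant character: good cosets

`C` normal in the finite group `X`, `θ` an `X`-invariant irreducible character of `C`.

* `index_eq_sum`: `|X : C|` is the sum of the squares of the ramification indices;
* `exists_classFun`: for `x` whose centralizer modulo `C` is cyclic, there is a nonzero class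
  function, a combination of the characters over `θ`, supported on the conjugates of `x C`;
* `isConj_of_card_le_two`: if there are at most two characters over `θ`, then two such cosets
  `x C, y C ≠ C` are conjugate.
-/

set_option autoImplicit false
open scoped ComplexConjugate
open Cfsg

namespace Cfsg.Agent.H648.GoodCount

open Cfsg.Agent.Characters.Core Cfsg.Agent.H622.FR Cfsg.Agent.H622.Star

universe u

variable {X : Type u} [Group X]

section pj

variable {C : Subgroup X} [C.Normal] {θ : C → ℂ}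

/-- The irreducible characters over `θ`. -/
def Over (C : Subgroup X) (θ : C → ℂ) : Set (IrrCharacter X) :=
  {χ | OverMul C.subtype θ (χ : X → ℂ)}

theorem mem_over {χ : IrrCharacter X} :
    χ ∈ Over C θ ↔ ∀ n : C, (χ : X → ℂ) n * θ 1 = (χ : X → ℂ) 1 * θ n :=
  ⟨fun h n => h.lies n, fun h => ⟨χ.2, h⟩⟩

theorem mem_over_of_classInner [Finite X] [Fintype C] (hθ : IsIrrCharacter C θ) (hinv : Inv θ)
    {χ : IrrCharacter X} (h : classInner (fun n : C => (χ : X → ℂ) n) θ ≠ 0) :
    χ ∈ Over C θ := by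
  have := Fintype.ofFinite X
  have h1 := Cfsg.Agent.CharDeep.CliffordCorr.restrict_eq_smul_of_invariant C χ.2 hθ
    (fun g => funext fun n => hinv g n) h
  rw [mem_over]
  intro n
  have h2 := congrFun h1 n
  have h3 := congrFun h1 1
  simp only [Pi.smul_apply, smul_eq_mul, Subgroup.coe_one] at h2 h3
  rw [h2, h3]
  ring

theorem classInner_of_mem_over [Finite X] [Fintype C] (hθ : IsIrrCharacter C θ)
    {χ : IrrCharacter X} (h : χ ∈ Over C θ) :
    classInner (fun n : C => (χ : X → ℂ) n) θ * θ 1 = (χ : X → ℂ) 1 := by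
  rw [mem_over] at h
  have h1 := classInner_irr_self hθ
  rw [classInner_def] at h1 ⊢
  have h2 : (∑ n : C, (χ : X → ℂ) n * conj (θ n)) * θ 1 =
      (χ : X → ℂ) 1 * ∑ n : C, θ n * conj (θ n) := by
    rw [Finset.sum_mul, Finset.mul_sum]
    refine Finset.sum_congr rfl fun n _ => ?_
    rw [mul_right_comm, h n]
    ring
  rw [mul_assoc, h2, mul_left_comm, h1, mul_one]

/-- The projection onto the functions over `θ`. -/
noncomputable def pj [Fintype C] (θ : C → ℂ) (F : X → ℂ) : X → ℂ := fun g =>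
  θ 1 / (Nat.card C : ℂ) * ∑ c : C, F (g * c) * conj (θ c)

theorem pj_apply [Fintype C] (θ : C → ℂ) (F : X → ℂ) (g : X) : pj θ F g =
    θ 1 / (Nat.card C : ℂ) * ∑ c : C, F (g * c) * conj (θ c) := rfl

theorem pj_sum [Fintype C] (θ : C → ℂ) {ι : Type*} (s : Finset ι) (a : ι → ℂ) (F : ι → X → ℂ) :
    pj θ (∑ i ∈ s, a i • F i) = ∑ i ∈ s, a i • pj θ (F i) := by
  funext g
  simp only [pj_apply, Finset.sum_apply, Pi.smul_apply, smul_eq_mul, Finset.sum_mul]
  rw [Finset.sum_comm, Finset.mul_sum]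
  refine Finset.sum_congr rfl fun i _ => ?_
  rw [Finset.mul_sum, Finset.mul_sum, Finset.mul_sum]
  refine Finset.sum_congr rfl fun c _ => ?_
  ring

/-- Values of an irreducible character of a group `H` on the cosets of the image of `C`. -/
theorem sum_mul_conj [Fintype C] {H : Type*} [Group H] {η : H → ℂ} (hη : IsIrrCharacter H η)
    (ι : C →* H) (σ : H → Equiv.Perm C) (hσ : ∀ h n, ι (σ h n) = h * ι n * h⁻¹)
    (hf : ∀ h n, θ (σ h n) = θ n) (x : H) :
    (∑ n : C, η (x * ι n) * conj (θ n)) * η 1 =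
      η x * ∑ n : C, η (ι n) * conj (θ n) := by
  have h := Cfsg.Agent.H591.Reynolds.sum_weight_mul_one hη ι (fun n => conj (θ n)) σ hσ
    (fun h n => by simp only [hf]) x
  rw [Finset.sum_congr rfl fun n _ => mul_comm (η (x * ι n)) _,
    Finset.sum_congr rfl fun n _ => mul_comm (η (ι n)) _]
  exact h

theorem sum_mul_conj' [Finite X] [Fintype C] (hinv : Inv θ) (χ : IrrCharacter X) (x : X) :
    (∑ n : C, (χ : X → ℂ) (x * n) * conj (θ n)) * (χ : X → ℂ) 1 =
      (χ : X → ℂ) x * ∑ n : C, (χ : X → ℂ) n * conj (θ n) :=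
  sum_mul_conj χ.2 C.subtype (fun h => (MulAut.conjNormal h : MulAut C).toEquiv)
    (fun h n => by
      change ((MulAut.conjNormal h n : C) : X) = _
      rw [MulAut.conjNormal_apply]; rfl) (fun h n => hinv h n) x

theorem sum_theta [Fintype C] (hθ : IsIrrCharacter C θ) :
    ∑ n : C, θ n * conj (θ n) = (Nat.card C : ℂ) := by
  have h1 := classInner_irr_self hθ
  rw [classInner_def] at h1
  have h0 : (Nat.card C : ℂ) ≠ 0 := by exact_mod_cast Nat.card_pos.ne'
  field_simp at h1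
  exact h1

theorem pj_of_mem [Finite X] [Fintype C] (hθ : IsIrrCharacter C θ) (hinv : Inv θ)
    {χ : IrrCharacter X} (h : χ ∈ Over C θ) : pj θ (χ : X → ℂ) = χ := by
  funext g
  have h0 : (Nat.card C : ℂ) ≠ 0 := by exact_mod_cast Nat.card_pos.ne'
  have hχ0 := isIrr_apply_one_ne_zero χ.2
  have h1 := sum_mul_conj' hinv χ g
  have h2 : (∑ n : C, (χ : X → ℂ) n * conj (θ n)) * θ 1 = (χ : X → ℂ) 1 * Nat.card C := by
    have h3 := classInner_of_mem_over hθ h
    rw [classInner_def] at h3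
    have h4 : (∑ n : C, (χ : X → ℂ) n * conj (θ n)) * θ 1 =
        (Nat.card C : ℂ) * ((Nat.card C : ℂ)⁻¹ * (∑ n : C, (χ : X → ℂ) n * conj (θ n)) * θ 1) := by
      field_simp
    rw [h4, h3, mul_comm]
  rw [pj_apply, div_mul_eq_mul_div, div_eq_iff h0]
  apply mul_right_cancel₀ hχ0
  calc θ 1 * (∑ c : C, (χ : X → ℂ) (g * c) * conj (θ c)) * (χ : X → ℂ) 1
      = θ 1 * ((∑ c : C, (χ : X → ℂ) (g * c) * conj (θ c)) * (χ : X → ℂ) 1) := by ring
    _ = (χ : X → ℂ) g * ((∑ n : C, (χ : X → ℂ) n * conj (θ n)) * θ 1) := by rw [h1]; ring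
    _ = _ := by rw [h2]; ring

theorem pj_of_notMem [Finite X] [Fintype C] (hθ : IsIrrCharacter C θ) (hinv : Inv θ)
    {χ : IrrCharacter X} (h : χ ∉ Over C θ) : pj θ (χ : X → ℂ) = 0 := by
  funext g
  have h0 : (Nat.card C : ℂ) ≠ 0 := by exact_mod_cast Nat.card_pos.ne'
  have hχ0 := isIrr_apply_one_ne_zero χ.2
  have h1 := sum_mul_conj' hinv χ g
  have h2 : ∑ n : C, (χ : X → ℂ) n * conj (θ n) = 0 := by
    by_contra h3
    apply h
    apply mem_over_of_classInner hθ hinv
    rw [classInner_def]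
    exact mul_ne_zero (inv_ne_zero h0) h3
  rw [h2, mul_zero] at h1
  have h3 := (mul_eq_zero.1 h1).resolve_right hχ0
  rw [pj_apply, h3, mul_zero]
  rfl

/-- A class function fixed by the projection is a combination of the characters over `θ`. -/
theorem mem_span_of_pj [Finite X] [Fintype C] (hθ : IsIrrCharacter C θ) (hinv : Inv θ)
    {F : X → ℂ} (hF : IsClassFunction X F) (h : pj θ F = F) :
    F ∈ Submodule.span ℂ ((fun χ : IrrCharacter X => (χ : X → ℂ)) '' Over C θ) := by
  classical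
  have := Fintype.ofFinite X
  have := finite_irr (G := X)
  have := Fintype.ofFinite (IrrCharacter X)
  rw [← h, show pj θ F = pj θ (∑ χ : IrrCharacter X, classInner F (χ : X → ℂ) • (χ : X → ℂ)) from
    congrArg (pj θ) (classFunction_eq_sum hF), pj_sum]
  refine Submodule.sum_mem _ fun χ _ => Submodule.smul_mem _ _ ?_
  by_cases hχ : χ ∈ Over C θ
  · rw [pj_of_mem hθ hinv hχ]
    exact Submodule.subset_span ⟨χ, hχ, rfl⟩
  · rw [pj_of_notMem hθ hinv hχ]
    exact Submodule.zero_mem _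

/-- The construction of class functions over `θ`. -/
theorem exists_fun [Finite X] [Fintype C] (hθ : IsIrrCharacter C θ) (hinv : Inv θ) {x : X}
    (f : X → ℂ) (hsupp : ∀ y, f y ≠ 0 → x⁻¹ * y ∈ C)
    (hcf : ∀ g y, g * x * g⁻¹ * x⁻¹ ∈ C → f (g * y * g⁻¹) = f y)
    (hpj : pj θ f = f) {y₀ : X} (hy₀ : f y₀ ≠ 0) :
    ∃ F : X → ℂ, F ≠ 0 ∧ (∀ y, F y ≠ 0 → ∃ g, x⁻¹ * (g * y * g⁻¹) ∈ C) ∧
      F ∈ Submodule.span ℂ ((fun χ : IrrCharacter X => (χ : X → ℂ)) '' Over C θ) := by
  classical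
  have := Fintype.ofFinite X
  refine ⟨fun y => ∑ g : X, f (g * y * g⁻¹), ?_, ?_, ?_⟩
  · intro h
    have h1 := congrFun h y₀
    simp only [Pi.zero_apply] at h1
    have h2 : ∑ g : X, f (g * y₀ * g⁻¹) =
        ∑ g : X, if g * x * g⁻¹ * x⁻¹ ∈ C then f y₀ else 0 := by
      refine Finset.sum_congr rfl fun g _ => ?_
      split_ifs with hg
      · exact hcf g y₀ hg
      · by_contra h3
        apply hg
        have h4 := hsupp _ h3
        have h5 := hsupp _ hy₀
        -- g y₀ g⁻¹ ∈ x C, y₀ ∈ x C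
        have h6 : g * (x⁻¹ * y₀) * g⁻¹ ∈ C := ‹C.Normal›.conj_mem _ h5 g
        have h7 : x * (x⁻¹ * (g * y₀ * g⁻¹)) * x⁻¹ ∈ C := ‹C.Normal›.conj_mem _ h4 x
        have h8 : g * y₀ * g⁻¹ * x⁻¹ ∈ C := by
          have : x * (x⁻¹ * (g * y₀ * g⁻¹)) * x⁻¹ = g * y₀ * g⁻¹ * x⁻¹ := by group
          rwa [this] at h7
        have h9 : g * x * g⁻¹ * (g * (x⁻¹ * y₀) * g⁻¹) * (g * x * g⁻¹)⁻¹ ∈ C :=
          ‹C.Normal›.conj_mem _ h6 _
        have h10 : g * x * g⁻¹ * x⁻¹ =
            (g * x * g⁻¹ * (g * (x⁻¹ * y₀) * g⁻¹) * (g * x * g⁻¹)⁻¹)⁻¹ *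
              (g * y₀ * g⁻¹ * x⁻¹) := by group
        rw [h10]
        exact C.mul_mem (C.inv_mem h9) h8
    rw [h2, ← Finset.sum_filter, Finset.sum_const, nsmul_eq_mul] at h1
    rcases mul_eq_zero.1 h1 with h3 | h3
    · have h4 : (1 : X) ∈ Finset.univ.filter fun g : X => g * x * g⁻¹ * x⁻¹ ∈ C := by
        rw [Finset.mem_filter]
        exact ⟨Finset.mem_univ _, by simp⟩
      have h5 := Finset.card_pos.2 ⟨_, h4⟩
      have h6 : (Finset.univ.filter fun g : X => g * x * g⁻¹ * x⁻¹ ∈ C).card = 0 := by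
        exact_mod_cast h3
      omega
    · exact hy₀ h3
  · intro y hy
    by_contra hcon
    push Not at hcon
    apply hy
    refine Finset.sum_eq_zero fun g _ => ?_
    by_contra h
    exact hcon g (hsupp _ h)
  · apply mem_span_of_pj hθ hinv
    · intro y h
      refine Fintype.sum_equiv (Equiv.mulRight h) _ _ fun g => ?_
      simp only [Equiv.coe_mulRight]
      congr 1
      group
    · funext y
      rw [pj_apply]
      simp only [Finset.sum_mul]
      rw [Finset.sum_comm, Finset.mul_sum]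
      refine Finset.sum_congr rfl fun g _ => ?_
      have h1 := congrFun hpj (g * y * g⁻¹)
      rw [← h1, pj_apply]
      congr 1
      refine Fintype.sum_equiv (MulAut.conjNormal g : MulAut C).toEquiv _ _ fun c => ?_
      have h2 : (((MulAut.conjNormal g : MulAut C).toEquiv c : C) : X) = g * c * g⁻¹ := by
        change ((MulAut.conjNormal g c : C) : X) = _
        rw [MulAut.conjNormal_apply]
      have h3 : θ ((MulAut.conjNormal g : MulAut C).toEquiv c) = θ c := hinv g c
      rw [h3, h2]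
      congr 2
      group

/-- The trivial coset. -/
theorem exists_fun_one [Finite X] (hθ : IsIrrCharacter C θ) (hinv : Inv θ) :
    ∃ F : X → ℂ, F ≠ 0 ∧ (∀ y, F y ≠ 0 → ∃ g, (1 : X)⁻¹ * (g * y * g⁻¹) ∈ C) ∧
      F ∈ Submodule.span ℂ ((fun χ : IrrCharacter X => (χ : X → ℂ)) '' Over C θ) := by
  classical
  have := Fintype.ofFinite X
  have := Fintype.ofFinite C
  refine exists_fun hθ hinv (x := 1) (fun y => if h : y ∈ C then θ ⟨y, h⟩ else 0) ?_ ?_ ?_
    (y₀ := 1) ?_
  · intro y hy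
    by_contra h
    apply hy
    rw [inv_one, one_mul] at h
    rw [dif_neg h]
  · intro g y _
    by_cases hy : y ∈ C
    · rw [dif_pos hy, dif_pos (‹C.Normal›.conj_mem y hy g)]
      rw [← hinv g ⟨y, hy⟩]
      congr 1
    · rw [dif_neg hy, dif_neg]
      intro h
      apply hy
      have := ‹C.Normal›.conj_mem _ h g⁻¹
      simpa [mul_assoc] using this
  · funext y
    rw [pj_apply]
    by_cases hy : y ∈ C
    · rw [dif_pos hy]
      have h0 : (Nat.card C : ℂ) ≠ 0 := by exact_mod_cast Nat.card_pos.ne'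
      have hθ0 := isIrr_apply_one_ne_zero hθ
      have h1 := sum_mul_conj hθ (θ := θ) (MonoidHom.id C)
        (fun h => (MulAut.conj h : MulAut C).toEquiv) (fun h n => rfl)
        (fun h n => isIrr_isClassFunction hθ n h) (⟨y, hy⟩ : C)
      simp only [MonoidHom.id_apply] at h1
      rw [sum_theta hθ] at h1
      have h2 : ∑ c : C, (if h : y * (c : X) ∈ C then θ ⟨y * c, h⟩ else 0) * conj (θ c) =
          ∑ n : C, θ ((⟨y, hy⟩ : C) * n) * conj (θ n) := by
        refine Finset.sum_congr rfl fun c _ => ?_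
        rw [dif_pos (C.mul_mem hy c.2)]
        rfl
      rw [h2, div_mul_eq_mul_div, div_eq_iff h0, mul_comm (θ 1), h1]
    · rw [dif_neg hy]
      apply mul_eq_zero_of_right
      refine Finset.sum_eq_zero fun c _ => ?_
      rw [dif_neg, zero_mul]
      intro h
      apply hy
      have := C.mul_mem h (C.inv_mem c.2)
      simpa using this
  · rw [dif_pos C.one_mem]
    exact isIrr_apply_one_ne_zero hθ

/-- Cosets with cyclic centralizer. -/
theorem exists_fun_cyclic [Finite X] (hθ : IsIrrCharacter C θ) (hinv : Inv θ) {x : X}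
    (hcyc : IsCyclic (Subgroup.centralizer ({(x : X ⧸ C)} : Set (X ⧸ C)))) :
    ∃ F : X → ℂ, F ≠ 0 ∧ (∀ y, F y ≠ 0 → ∃ g, x⁻¹ * (g * y * g⁻¹) ∈ C) ∧
      F ∈ Submodule.span ℂ ((fun χ : IrrCharacter X => (χ : X → ℂ)) '' Over C θ) := by
  classical
  have := Fintype.ofFinite X
  have := Fintype.ofFinite C
  -- the preimage of the centralizer
  set A : Subgroup X := (Subgroup.centralizer ({(x : X ⧸ C)} : Set (X ⧸ C))).comap
    (QuotientGroup.mk' C) with hA
  have := Fintype.ofFinite A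
  have hmemA : ∀ g : X, g ∈ A ↔ g * x * g⁻¹ * x⁻¹ ∈ C := by
    intro g
    rw [hA, Subgroup.mem_comap, Subgroup.mem_centralizer_singleton_iff]
    change (g : X ⧸ C) * (x : X ⧸ C) = (x : X ⧸ C) * (g : X ⧸ C) ↔ _
    rw [← QuotientGroup.mk_mul, ← QuotientGroup.mk_mul, eq_comm, QuotientGroup.eq]
    have h1 : g * x * g⁻¹ * x⁻¹ = (x * g) * ((x * g)⁻¹ * (g * x)) * (x * g)⁻¹ := by group
    rw [h1]
    constructor
    · intro h
      exact ‹C.Normal›.conj_mem _ h _
    · intro h
      have := ‹C.Normal›.conj_mem _ h (x * g)⁻¹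
      simpa [mul_assoc] using this
  have hCA : C ≤ A := by
    intro c hc
    rw [hA, Subgroup.mem_comap]
    have : QuotientGroup.mk' C c = 1 := (QuotientGroup.eq_one_iff c).2 hc
    rw [this]
    exact Subgroup.one_mem _
  have hxA : x ∈ A := by rw [hmemA]; simp
  let C' : Subgroup A := C.subgroupOf A
  have hC'n : C'.Normal := inferInstance
  have hcycA : IsCyclic (A ⧸ C') := by
    let f : A ⧸ C' →* Subgroup.centralizer ({(x : X ⧸ C)} : Set (X ⧸ C)) :=
      QuotientGroup.lift C'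
        ({ toFun := fun a => ⟨((a : X) : X ⧸ C), a.2⟩
           map_one' := rfl
           map_mul' := fun _ _ => rfl } : A →* Subgroup.centralizer ({(x : X ⧸ C)} : Set (X ⧸ C)))
        (by
          intro a ha
          apply Subtype.ext
          exact (QuotientGroup.eq_one_iff _).2 ha)
    refine isCyclic_of_injective f ?_
    rw [injective_iff_map_eq_one]
    intro a ha
    obtain ⟨a, rfl⟩ := QuotientGroup.mk_surjective a
    have h1 : ((a : X) : X ⧸ C) = 1 := congrArg Subtype.val ha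
    exact (QuotientGroup.eq_one_iff _).2 ((QuotientGroup.eq_one_iff (a : X)).1 h1)
  -- extend `θ`
  let e : C' ≃* C := Subgroup.subgroupOfEquivOfLe hCA
  obtain ⟨η, hη, hηe⟩ := Cfsg.Agent.S0886.result C' hcycA (θ ∘ e)
    (isIrr_comp (e : C' →* C) e.surjective hθ) (by
      intro g n
      simp only [Function.comp]
      rw [← hinv (g : X) (e n)]
      congr 1)
  have hηC : ∀ n : C, η ⟨(n : X), hCA n.2⟩ = θ n := by
    intro n
    have := hηe (e.symm n)
    simp only [Function.comp, MulEquiv.apply_symm_apply] at this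
    exact this
  let ι : C →* A := Subgroup.inclusion hCA
  have hηι : ∀ n : C, η (ι n) = θ n := hηC
  have h0 : (Nat.card C : ℂ) ≠ 0 := by exact_mod_cast Nat.card_pos.ne'
  have hη0 := isIrr_apply_one_ne_zero hη
  have hη1 : η 1 = θ 1 := by
    have := hηι 1
    rwa [map_one] at this
  have hkey : ∀ y : A, θ 1 / (Nat.card C : ℂ) * ∑ n : C, η (y * ι n) * conj (θ n) = η y := by
    intro y
    have h1 := sum_mul_conj hη (θ := θ) ι
      (fun h => (MulAut.conjNormal (h : X) : MulAut C).toEquiv)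
      (fun h n => by
        apply Subtype.ext
        change ((MulAut.conjNormal (h : X) n : C) : X) = _
        rw [MulAut.conjNormal_apply]; rfl) (fun h n => hinv h n) y
    have h2 : ∑ n : C, η (ι n) * conj (θ n) = (Nat.card C : ℂ) := by
      rw [← sum_theta hθ]
      exact Finset.sum_congr rfl fun n _ => by rw [hηι n]
    rw [h2, hη1] at h1
    rw [div_mul_eq_mul_div, div_eq_iff h0, mul_comm (θ 1)]
    exact h1
  -- nonvanishing
  obtain ⟨n₀, hn₀⟩ : ∃ n : C, η ((ι n) * ⟨x, hxA⟩) ≠ 0 := by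
    by_contra hcon
    push Not at hcon
    have := Fintype.ofFinite C'
    have h1 := Cfsg.Agent.CharactersDeep.CosetAverage.cosetAverage_self C' η hη (by
      have h2 : (fun n : C' => η n) = θ ∘ e := funext hηe
      rw [h2]
      exact isIrr_comp (e : C' →* C) e.surjective hθ) ⟨x, hxA⟩
    rw [Finset.sum_eq_zero, mul_zero] at h1
    · exact zero_ne_one h1
    · intro n _
      have h2 := hcon (e n)
      have h3 : ι (e n) = (n : A) := rfl
      rw [h3] at h2
      rw [h2, zero_mul]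
  refine exists_fun hθ hinv (x := x)
    (fun y => if h : y ∈ A ∧ x⁻¹ * y ∈ C then η ⟨y, h.1⟩ else 0) ?_ ?_ ?_
    (y₀ := (n₀ : X) * x) ?_
  · intro y hy
    by_contra h
    apply hy
    rw [dif_neg]
    exact fun h' => h h'.2
  · intro g y hg
    have hgA : g ∈ A := (hmemA g).2 hg
    have hiff : (g * y * g⁻¹ ∈ A ∧ x⁻¹ * (g * y * g⁻¹) ∈ C) ↔ (y ∈ A ∧ x⁻¹ * y ∈ C) := by
      have h1 : ∀ (g' y' : X), g' ∈ A → x⁻¹ * y' ∈ C → x⁻¹ * (g' * y' * g'⁻¹) ∈ C := by
        intro g' y' hg' hy'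
        have h2 : x⁻¹ * (g' * y' * g'⁻¹) =
            (x⁻¹ * (g' * x * g'⁻¹ * x⁻¹) * x) * (g' * (x⁻¹ * y') * g'⁻¹) := by group
        rw [h2]
        refine C.mul_mem ?_ (‹C.Normal›.conj_mem _ hy' _)
        have := ‹C.Normal›.conj_mem _ ((hmemA g').1 hg') x⁻¹
        rwa [inv_inv] at this
      constructor
      · rintro ⟨h2, h3⟩
        refine ⟨?_, ?_⟩
        · have := A.mul_mem (A.mul_mem (A.inv_mem hgA) h2) hgA
          simpa [mul_assoc] using this
        · have := h1 g⁻¹ _ (A.inv_mem hgA) h3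
          simpa [mul_assoc] using this
      · rintro ⟨h2, h3⟩
        exact ⟨A.mul_mem (A.mul_mem hgA h2) (A.inv_mem hgA), h1 g y hgA h3⟩
    by_cases hy : y ∈ A ∧ x⁻¹ * y ∈ C
    · rw [dif_pos hy, dif_pos (hiff.2 hy)]
      have := isIrr_isClassFunction hη ⟨y, hy.1⟩ ⟨g, hgA⟩
      rw [← this]
      rfl
    · rw [dif_neg hy, dif_neg (fun h => hy (hiff.1 h))]
  · funext y
    rw [pj_apply]
    have hiff : ∀ c : C, (y * c ∈ A ∧ x⁻¹ * (y * c) ∈ C) ↔ (y ∈ A ∧ x⁻¹ * y ∈ C) := by
      intro c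
      rw [← mul_assoc, Subgroup.mul_mem_cancel_right _ (hCA c.2),
        Subgroup.mul_mem_cancel_right _ c.2]
    by_cases hy : y ∈ A ∧ x⁻¹ * y ∈ C
    · rw [dif_pos hy, ← hkey ⟨y, hy.1⟩]
      congr 1
      refine Finset.sum_congr rfl fun c _ => ?_
      rw [dif_pos ((hiff c).2 hy)]
      rfl
    · rw [dif_neg hy]
      apply mul_eq_zero_of_right
      refine Finset.sum_eq_zero fun c _ => ?_
      rw [dif_neg (fun h => hy ((hiff c).1 h)), zero_mul]
  · have h1 : (n₀ : X) * x ∈ A := A.mul_mem (hCA n₀.2) hxA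
    have h2 : x⁻¹ * ((n₀ : X) * x) ∈ C := by
      have := ‹C.Normal›.conj_mem _ n₀.2 x⁻¹
      rwa [inv_inv, mul_assoc] at this
    rw [dif_pos ⟨h1, h2⟩]
    exact hn₀

/-- The ramification index. -/
theorem exists_ram [Finite X] (hθ : IsIrrCharacter C θ) {χ : IrrCharacter X}
    (h : χ ∈ Over C θ) : ∃ e : ℕ, 0 < e ∧ (χ : X → ℂ) 1 = e * θ 1 := by
  have := Fintype.ofFinite X
  have := Fintype.ofFinite C
  obtain ⟨e, he⟩ := classInner_isNat
    (isCharacter_comp C.subtype (isIrr_isCharacter χ.2) : IsCharacter C fun n : C => (χ : X → ℂ) n)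
    (isIrr_isCharacter hθ)
  have h1 := classInner_of_mem_over hθ h
  have he' : classInner (fun n : C => (χ : X → ℂ) n) θ = e := he
  rw [he'] at h1
  refine ⟨e, ?_, h1.symm⟩
  apply Nat.pos_of_ne_zero
  rintro rfl
  rw [Nat.cast_zero, zero_mul] at h1
  exact isIrr_apply_one_ne_zero χ.2 h1.symm

/-- The ramification index. -/
noncomputable def ram [Finite X] (hθ : IsIrrCharacter C θ) (χ : Over C θ) : ℕ :=
  (exists_ram hθ χ.2).choose

theorem ram_spec [Finite X] (hθ : IsIrrCharacter C θ) (χ : Over C θ) :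
    ((χ : IrrCharacter X) : X → ℂ) 1 = ram hθ χ * θ 1 := (exists_ram hθ χ.2).choose_spec.2

theorem index_eq_sum [Finite X] (hθ : IsIrrCharacter C θ) (hinv : Inv θ) [Fintype (Over C θ)] :
    C.index = ∑ χ : Over C θ, ram hθ χ ^ 2 := by
  classical
  have := Fintype.ofFinite X
  have := Fintype.ofFinite C
  have := finite_irr (G := X)
  have := Fintype.ofFinite (IrrCharacter X)
  have h0 : (Nat.card C : ℂ) ≠ 0 := by exact_mod_cast Nat.card_pos.ne'
  have hθ0 := isIrr_apply_one_ne_zero hθ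
  have hreal : conj (θ 1) = θ 1 := by
    obtain ⟨n, ρ, -, rfl⟩ := hθ
    have : ρ.character 1 = (n : ℂ) := by simp
    rw [this, map_natCast]
  -- the sum over all characters
  have h1 : ∀ c : C, ∑ χ : IrrCharacter X, (χ : X → ℂ) 1 * (χ : X → ℂ) c =
      if c = 1 then (Nat.card X : ℂ) else 0 := by
    intro c
    rw [Cfsg.Agent.Characters.Counting.sum_irr_one_mul]
    congr 1
    rw [eq_iff_iff]
    exact ⟨fun h => Subtype.ext h, fun h => congrArg Subtype.val h⟩
  have h2 : ∑ χ : IrrCharacter X, (χ : X → ℂ) 1 * ∑ c : C, (χ : X → ℂ) c * conj (θ c) =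
      (Nat.card X : ℂ) * θ 1 := by
    simp only [Finset.mul_sum]
    rw [Finset.sum_comm]
    have h3 : ∀ c : C, ∑ χ : IrrCharacter X, (χ : X → ℂ) 1 * ((χ : X → ℂ) c * conj (θ c)) =
        (if c = 1 then (Nat.card X : ℂ) else 0) * conj (θ c) := by
      intro c
      rw [← h1 c, Finset.sum_mul]
      exact Finset.sum_congr rfl fun χ _ => by ring
    rw [Finset.sum_congr rfl fun c _ => h3 c]
    simp only [ite_mul, zero_mul]
    rw [Finset.sum_ite_eq' Finset.univ (1 : C), if_pos (Finset.mem_univ _), hreal]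
  have h3 : ∀ χ : IrrCharacter X, χ ∉ Over C θ → ∑ c : C, (χ : X → ℂ) c * conj (θ c) = 0 := by
    intro χ hχ
    by_contra h3
    apply hχ
    apply mem_over_of_classInner hθ hinv
    rw [classInner_def]
    exact mul_ne_zero (inv_ne_zero h0) h3
  have h4 : ∀ χ : Over C θ, ∑ c : C, ((χ : IrrCharacter X) : X → ℂ) c * conj (θ c) =
      (Nat.card C : ℂ) * ram hθ χ := by
    intro χ
    have h5 := classInner_of_mem_over hθ χ.2
    rw [ram_spec hθ χ, classInner_def] at h5
    have h6 := mul_right_cancel₀ hθ0 h5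
    rw [← h6]
    field_simp
  let f : IrrCharacter X → ℂ := fun χ => (χ : X → ℂ) 1 * ∑ c : C, (χ : X → ℂ) c * conj (θ c)
  have h5 : ∑ χ : Over C θ, f χ = ∑ χ : IrrCharacter X, f χ := by
    refine (Finset.sum_subtype (Finset.univ.filter fun χ : IrrCharacter X => χ ∈ Over C θ)
      (by simp) f).symm.trans (Finset.sum_subset (Finset.filter_subset _ _) fun χ _ hχ => ?_)
    change (χ : X → ℂ) 1 * ∑ c : C, (χ : X → ℂ) c * conj (θ c) = 0
    rw [h3 χ (fun h => hχ (Finset.mem_filter.2 ⟨Finset.mem_univ _, h⟩)), mul_zero]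
  have h6 : ∑ χ : Over C θ, f χ = (Nat.card C : ℂ) * θ 1 * ∑ χ : Over C θ, (ram hθ χ : ℂ) ^ 2 := by
    rw [Finset.mul_sum]
    refine Finset.sum_congr rfl fun χ _ => ?_
    change ((χ : IrrCharacter X) : X → ℂ) 1 *
      ∑ c : C, ((χ : IrrCharacter X) : X → ℂ) c * conj (θ c) = _
    rw [h4 χ, ram_spec hθ χ]
    ring
  have h7 : (Nat.card X : ℂ) = (Nat.card C : ℂ) * (C.index : ℂ) := by
    rw [← Nat.cast_mul, C.card_mul_index]
  have h8 : (Nat.card C : ℂ) * θ 1 * ∑ χ : Over C θ, (ram hθ χ : ℂ) ^ 2 =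
      (Nat.card C : ℂ) * θ 1 * (C.index : ℂ) := by
    rw [← h6, h5, h2, h7]
    ring
  have h9 := mul_left_cancel₀ (mul_ne_zero h0 hθ0) h8
  exact_mod_cast h9.symm

/-- At most two characters over `θ`: the index is a sum of two squares. -/
theorem exists_sq_add_sq [Finite X] (hθ : IsIrrCharacter C θ) (hinv : Inv θ)
    (h : Nat.card (Over C θ) ≤ 2) : ∃ a b : ℕ, C.index = a ^ 2 + b ^ 2 := by
  classical
  have := finite_irr (G := X)
  have := Fintype.ofFinite (Over C θ)
  have h1 := index_eq_sum hθ hinv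
  rw [Nat.card_eq_fintype_card] at h
  obtain ⟨e⟩ := Fintype.truncEquivFin (Over C θ)
  rw [← Equiv.sum_comp e.symm] at h1
  generalize Fintype.card (Over C θ) = n at h e
  interval_cases n
  · exact ⟨0, 0, by simpa using h1⟩
  · exact ⟨_, 0, by simpa using h1⟩
  · exact ⟨_, _, by simpa [Fin.sum_univ_two] using h1⟩

/-- At most one character over `θ`: the index is a square. -/
theorem exists_sq [Finite X] (hθ : IsIrrCharacter C θ) (hinv : Inv θ)
    (h : Nat.card (Over C θ) ≤ 1) : ∃ a : ℕ, C.index = a ^ 2 := by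
  classical
  have := finite_irr (G := X)
  have := Fintype.ofFinite (Over C θ)
  have h1 := index_eq_sum hθ hinv
  rw [Nat.card_eq_fintype_card] at h
  obtain ⟨e⟩ := Fintype.truncEquivFin (Over C θ)
  rw [← Equiv.sum_comp e.symm] at h1
  generalize Fintype.card (Over C θ) = n at h e
  interval_cases n
  · exact ⟨0, by simpa using h1⟩
  · exact ⟨_, by simpa using h1⟩

/-- Nonconjugate good cosets give linearly independent functions. -/
theorem isConj_of_card_le_two [Finite X] (hθ : IsIrrCharacter C θ) (hinv : Inv θ)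
    (h : Nat.card (Over C θ) ≤ 2) {x y : X} (hx : x ∉ C) (hy : y ∉ C)
    (hxc : IsCyclic (Subgroup.centralizer ({(x : X ⧸ C)} : Set (X ⧸ C))))
    (hyc : IsCyclic (Subgroup.centralizer ({(y : X ⧸ C)} : Set (X ⧸ C)))) :
    IsConj (x : X ⧸ C) (y : X ⧸ C) := by
  classical
  by_contra hcon
  have := finite_irr (G := X)
  obtain ⟨F₀, h0, hs0, hm0⟩ := exists_fun_one hθ hinv
  obtain ⟨F₁, h1, hs1, hm1⟩ := exists_fun_cyclic hθ hinv hxc
  obtain ⟨F₂, h2, hs2, hm2⟩ := exists_fun_cyclic hθ hinv hyc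
  have hfx : ∀ z, F₁ z ≠ 0 → IsConj (z : X ⧸ C) (x : X ⧸ C) := by
    intro z hz
    obtain ⟨g, hg⟩ := hs1 z hz
    rw [isConj_iff]
    refine ⟨(g : X ⧸ C), ?_⟩
    rw [← QuotientGroup.mk_inv, ← QuotientGroup.mk_mul, ← QuotientGroup.mk_mul, eq_comm,
      QuotientGroup.eq]
    exact hg
  have hfy : ∀ z, F₂ z ≠ 0 → IsConj (z : X ⧸ C) (y : X ⧸ C) := by
    intro z hz
    obtain ⟨g, hg⟩ := hs2 z hz
    rw [isConj_iff]
    refine ⟨(g : X ⧸ C), ?_⟩
    rw [← QuotientGroup.mk_inv, ← QuotientGroup.mk_mul, ← QuotientGroup.mk_mul, eq_comm,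
      QuotientGroup.eq]
    exact hg
  have hf0 : ∀ z, F₀ z ≠ 0 → z ∈ C := by
    intro z hz
    obtain ⟨g, hg⟩ := hs0 z hz
    rw [inv_one, one_mul] at hg
    have := ‹C.Normal›.conj_mem _ hg g⁻¹
    simpa [mul_assoc] using this
  have hne1 : ∀ z, z ∈ C → F₁ z = 0 := by
    intro z hz
    by_contra h3
    have h4 := hfx z h3
    rw [(QuotientGroup.eq_one_iff z).2 hz, isConj_one_right] at h4
    exact hx ((QuotientGroup.eq_one_iff x).1 h4)
  have hne2 : ∀ z, z ∈ C → F₂ z = 0 := by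
    intro z hz
    by_contra h3
    have h4 := hfy z h3
    rw [(QuotientGroup.eq_one_iff z).2 hz, isConj_one_right] at h4
    exact hy ((QuotientGroup.eq_one_iff y).1 h4)
  obtain ⟨z0, hz0⟩ := Function.ne_iff.1 h0
  obtain ⟨z1, hz1⟩ := Function.ne_iff.1 h1
  obtain ⟨z2, hz2⟩ := Function.ne_iff.1 h2
  rw [Pi.zero_apply] at hz0 hz1 hz2
  have e01 : F₁ z0 = 0 := hne1 z0 (hf0 z0 hz0)
  have e02 : F₂ z0 = 0 := hne2 z0 (hf0 z0 hz0)
  have e10 : F₀ z1 = 0 := by
    by_contra h3
    exact hz1 (hne1 z1 (hf0 z1 h3))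
  have e20 : F₀ z2 = 0 := by
    by_contra h3
    exact hz2 (hne2 z2 (hf0 z2 h3))
  have e12 : F₂ z1 = 0 := by
    by_contra h3
    exact hcon ((hfx z1 hz1).symm.trans (hfy z1 h3))
  have e21 : F₁ z2 = 0 := by
    by_contra h3
    exact hcon ((hfx z2 h3).symm.trans (hfy z2 hz2))
  have hli : LinearIndependent ℂ (![F₀, F₁, F₂] : Fin 3 → X → ℂ) := by
    rw [Fintype.linearIndependent_iff]
    intro g hg
    have k0 := congrFun hg z0
    have k1 := congrFun hg z1
    have k2 := congrFun hg z2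
    simp only [Fin.sum_univ_three, Matrix.cons_val_zero, Matrix.cons_val_one, Matrix.cons_val,
      Pi.add_apply, Pi.smul_apply, smul_eq_mul, Pi.zero_apply, e01, e02, e10, e20, e12, e21,
      mul_zero, add_zero, zero_add, mul_eq_zero, hz0, hz1, hz2, or_false] at k0 k1 k2
    intro i
    fin_cases i
    · exact k0
    · exact k1
    · exact k2
  have hfin : Finite ((fun χ : IrrCharacter X => (χ : X → ℂ)) '' Over C θ) :=
    (Set.toFinite (Over C θ)).image _
  have hmem : ∀ i : Fin 3, (![F₀, F₁, F₂] : Fin 3 → X → ℂ) i ∈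
      Submodule.span ℂ ((fun χ : IrrCharacter X => (χ : X → ℂ)) '' Over C θ) := by
    intro i
    fin_cases i
    · exact hm0
    · exact hm1
    · exact hm2
  have hfd : Module.Finite ℂ
      (Submodule.span ℂ ((fun χ : IrrCharacter X => (χ : X → ℂ)) '' Over C θ)) :=
    Module.Finite.span_of_finite ℂ (Set.toFinite _)
  have hli' : LinearIndependent ℂ (fun i : Fin 3 => (⟨_, hmem i⟩ :
      Submodule.span ℂ ((fun χ : IrrCharacter X => (χ : X → ℂ)) '' Over C θ))) := by
    apply LinearIndependent.of_comp (Submodule.subtype _)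
    exact hli
  have h4 := hli'.fintype_card_le_finrank
  have h5 : Module.finrank ℂ
      (Submodule.span ℂ ((fun χ : IrrCharacter X => (χ : X → ℂ)) '' Over C θ)) ≤
        Nat.card (Over C θ) := by
    have := Fintype.ofFinite ((fun χ : IrrCharacter X => (χ : X → ℂ)) '' Over C θ)
    refine (finrank_span_le_card (R := ℂ)
      ((fun χ : IrrCharacter X => (χ : X → ℂ)) '' Over C θ)).trans ?_
    rw [Set.toFinset_card, ← Nat.card_eq_fintype_card]
    exact Nat.card_image_le (Set.toFinite _)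
  rw [Fintype.card_fin] at h4
  omega

end pj

end Cfsg.Agent.H648.GoodCount
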