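import Mathlib
import Cfsg.Agent.H648.GoodCount
import Cfsg.Agent.H648.SecOne
import Cfsg.Agent.H646.NormalSupport
import Cfsg.Agent.H644.CentralQuot
import Cfsg.Agent.H692.RealOver
import Cfsg.Agent.Blocks.PPart
import Cfsg.Agent.Blocks.Knorr

/-!
# The canonical character of a normal defect group

`P` is a normal `p`-subgroup of `Y`, `N` a normal subgroup containing `P` and its centralizer, `θ`
a `Y`-invariant irreducible character of `N` trivial on `P` and of `p`-defect zero as a character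
of `N / P`, and `p` does not divide `|Y : N|`. Then all the characters over `θ` lie in one block,
of rank at least their number.
-/

set_option autoImplicit false

open Cfsg Cfsg.Agent.Blocks.Basic Cfsg.Agent.Blocks.Local Module

namespace Cfsg.Agent.H648.NormTheta

open Cfsg.Agent.H608.BlockRank Cfsg.Agent.H648.GoodCount Cfsg.Agent.H622.Star

universe u

variable {Y : Type u} [Group Y] {p : ℕ}

/-- The characters over `θ` are trivial on `P`. -/
theorem exists_deflation_of_mem [Finite Y] (P : Subgroup Y) [P.Normal] {N : Subgroup Y} [N.Normal]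
    (hPN : P ≤ N) {θ : IrrCharacter N} (htriv : ∀ n : N, (n : Y) ∈ P → (θ : N → ℂ) n = (θ : N → ℂ) 1)
    {χ : IrrCharacter Y} (hχ : χ ∈ Over N (θ : N → ℂ)) :
    ∃ χ' : IrrCharacter (Y ⧸ P), (χ : Y → ℂ) = (χ' : Y ⧸ P → ℂ) ∘ QuotientGroup.mk := by
  have := Fintype.ofFinite P
  have hθ0 : (θ : N → ℂ) 1 ≠ 0 := Cfsg.Agent.Characters.Core.isIrr_apply_one_ne_zero θ.2
  have hχ0 : (χ : Y → ℂ) 1 ≠ 0 := Cfsg.Agent.Characters.Core.isIrr_apply_one_ne_zero χ.2
  refine Cfsg.Agent.Blocks.Deflate.exists_deflation P (χ : Y → ℂ) χ.2 ?_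
  have h1 : ∀ n : P, (χ : Y → ℂ) n = (χ : Y → ℂ) 1 := by
    intro n
    have h2 := (mem_over.1 hχ) ⟨n, hPN n.2⟩
    rw [htriv ⟨n, hPN n.2⟩ n.2] at h2
    exact mul_right_cancel₀ hθ0 h2
  simp only [h1]
  rw [Finset.sum_const, nsmul_eq_mul]
  refine mul_ne_zero ?_ hχ0
  rw [Finset.card_univ]
  exact_mod_cast Fintype.card_pos.ne'

theorem charDegree_dvd_of_mem [Finite Y] {N : Subgroup Y} [N.Normal] {θ : IrrCharacter N}
    {χ : IrrCharacter Y} (hχ : χ ∈ Over N (θ : N → ℂ)) :
    charDegree (θ : N → ℂ) ∣ charDegree (χ : Y → ℂ) := by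
  obtain ⟨e, -, he⟩ := exists_ram θ.2 hχ
  have h1 := Cfsg.Agent.Blocks.Knorr.charDegree_eq χ.2
  have h2 := Cfsg.Agent.Blocks.Knorr.charDegree_eq θ.2
  rw [h1, h2] at he
  have h3 : charDegree (χ : Y → ℂ) = e * charDegree (θ : N → ℂ) := by exact_mod_cast he
  exact ⟨e, by rw [h3, mul_comm]⟩

/-- The characters over `θ` vanish off the elements which are `p`-regular modulo `P`. -/
theorem vanish [Fact p.Prime] [Finite Y] (P : Subgroup Y) [P.Normal] {N : Subgroup Y} [N.Normal]
    (hPN : P ≤ N) {θ : IrrCharacter N} (htriv : ∀ n : N, (n : Y) ∈ P → (θ : N → ℂ) n = (θ : N → ℂ) 1)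
    (hdeg : p ^ (P.relIndex N).factorization p ∣ charDegree (θ : N → ℂ)) (hidx : ¬ p ∣ N.index)
    {χ : IrrCharacter Y} (hχ : χ ∈ Over N (θ : N → ℂ)) {y : Y}
    (hy : p ∣ orderOf (QuotientGroup.mk y : Y ⧸ P)) : (χ : Y → ℂ) y = 0 := by
  have hp : p.Prime := Fact.out
  obtain ⟨χ', hχ'⟩ := exists_deflation_of_mem P hPN htriv hχ
  rw [hχ']
  refine Cfsg.Agent.H692.RealOver.defect_zero_vanish χ'.2 p hp ?_ hy
  have h1 : charDegree (χ' : Y ⧸ P → ℂ) = charDegree (χ : Y → ℂ) := by
    rw [hχ']; rfl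
  have h2 : Nat.card (Y ⧸ P) = P.relIndex N * N.index := by
    rw [Subgroup.relIndex_mul_index hPN]; rfl
  rw [h1, h2, Nat.factorization_mul
    (by unfold Subgroup.relIndex; exact Subgroup.index_ne_zero_of_finite)
    Subgroup.index_ne_zero_of_finite, Finsupp.add_apply,
    Nat.factorization_eq_zero_of_not_dvd hidx, add_zero]
  exact hdeg.trans (charDegree_dvd_of_mem hχ)

/-- The characters over `θ` are linearly independent on the `p`-regular elements. -/
theorem card_over_le_blockRank [Fact p.Prime] [Finite Y] (P : Subgroup Y) [P.Normal]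
    (hP : IsPGroup p P) {N : Subgroup Y} [N.Normal]
    (hPN : P ≤ N) {θ : IrrCharacter N} (htriv : ∀ n : N, (n : Y) ∈ P → (θ : N → ℂ) n = (θ : N → ℂ) 1)
    (hdeg : p ^ (P.relIndex N).factorization p ∣ charDegree (θ : N → ℂ)) (hidx : ¬ p ∣ N.index)
    {β : Set (IrrCharacter Y)} (hβ : Over N (θ : N → ℂ) ⊆ β) :
    Nat.card (Over N (θ : N → ℂ)) ≤ blockRank p β := by
  classical
  have hp : p.Prime := Fact.out
  have := Cfsg.Agent.Characters.Core.finite_irr (G := Y)
  refine le_trans ?_ (SecOne.blockRank_mono hβ)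
  have : Fintype (Over N (θ : N → ℂ)) := Fintype.ofFinite _
  have h1 : LinearIndependent ℂ
      (fun χ : Over N (θ : N → ℂ) => pRegularPart p ((χ : IrrCharacter Y) : Y → ℂ)) := by
    rw [Fintype.linearIndependent_iff]
    intro a ha
    have h2 : LinearIndependent ℂ
        (fun χ : Over N (θ : N → ℂ) => ((χ : IrrCharacter Y) : Y → ℂ)) :=
      (Characters.Core.irr_linearIndependent (G := Y)).comp _ Subtype.val_injective
    refine Fintype.linearIndependent_iff.1 h2 a ?_
    funext y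
    rw [Finset.sum_apply]
    simp only [Pi.smul_apply, Pi.zero_apply, smul_eq_mul]
    by_cases hy : p ∣ orderOf (QuotientGroup.mk y : Y ⧸ P)
    · exact Finset.sum_eq_zero fun χ _ => by rw [vanish P hPN htriv hdeg hidx χ.2 hy, mul_zero]
    · obtain ⟨x, z, hxz, hcom, hx, hz⟩ := Cfsg.Agent.Blocks.PPart.exists_isPPart p y
      have hxP : (QuotientGroup.mk x : Y ⧸ P) = 1 := by
        have h3 : IsPPart p (QuotientGroup.mk y : Y ⧸ P) (QuotientGroup.mk x) := by
          refine ⟨QuotientGroup.mk z, by rw [← QuotientGroup.mk_mul, hxz],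
            hcom.map (QuotientGroup.mk' P), ?_, fun h => hz (h.trans
              (orderOf_map_dvd (QuotientGroup.mk' P) z))⟩
          obtain ⟨k, hk⟩ := hx
          have h3 : orderOf (QuotientGroup.mk x : Y ⧸ P) ∣ p ^ k :=
            hk ▸ orderOf_map_dvd (QuotientGroup.mk' P) x
          obtain ⟨j, -, hj⟩ := (Nat.dvd_prime_pow hp).1 h3
          exact ⟨j, hj⟩
        exact Cfsg.Agent.Blocks.PPart.isPPart_unique h3
          (Cfsg.Agent.Blocks.PPart.isPPart_of_not_dvd hy)
      have h4 : ∀ χ : Over N (θ : N → ℂ), ((χ : IrrCharacter Y) : Y → ℂ) y =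
          pRegularPart p ((χ : IrrCharacter Y) : Y → ℂ) z := by
        intro χ
        rw [← pReg_eq, pReg_of hz]
        obtain ⟨χ', hχ'⟩ := exists_deflation_of_mem P hPN htriv χ.2
        rw [hχ']
        simp only [Function.comp_apply]
        congr 1
        rw [← hxz, QuotientGroup.mk_mul, hxP, one_mul]
      have h5 := congrFun ha z
      rw [Finset.sum_apply] at h5
      simp only [Pi.smul_apply, Pi.zero_apply, smul_eq_mul] at h5
      rw [← h5]
      exact Finset.sum_congr rfl fun χ _ => by rw [h4 χ]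
  have h3 := finrank_span_eq_card h1
  unfold blockRank
  rw [Nat.card_eq_fintype_card, ← h3]
  rw [Set.image_eq_range]

end Cfsg.Agent.H648.NormTheta
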