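import Cfsg.Agent.H649.StabDefect
import Cfsg.Agent.H649.AbelLocal

/-!
# Subgroups between `Q C_G(Q)` and the stabilizer of a Brauer pair `(Q, f)`

`IsSub Q f S`: `Q C_G(Q) ≤ S` and `S` normalizes `Q` and stabilizes `f`.  The idempotent of `f` is a
block idempotent of `S`, and the Brauer pairs of this block above `Q` are the Brauer pairs of `G`
inside `S` normally above `(Q, f)`.
-/

set_option autoImplicit false
set_option linter.unusedSectionVars false

open Cfsg

namespace Cfsg.Agent.H648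

open Cfsg.Agent.Blocks.Local Cfsg.Agent.H651 Cfsg.Agent.H649
open Cfsg.Agent.Blocks.Basic (isPBlock_nonempty isPBlock_blockOf)
open Cfsg.Agent.Blocks.Fong (cj cj_apply lyingOver mem_lyingOver)
open Cfsg.Agent.H646.NormalSupport (underSet mem_underSet lyingOver_underSet)

universe u

variable {p : ℕ} [Fact p.Prime] {M : Ideal AlgInt} {G : Type u} [Group G]

/-- `S` contains `Q C_G(Q)`, normalizes `Q` and stabilizes `f`. -/
structure IsSub (Q : Subgroup G) (f : Set (IrrCharacter (Subgroup.centralizer (Q : Set G))))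
    (S : Subgroup G) : Prop where
  le : Q ≤ S
  centralizer_le : Subgroup.centralizer (Q : Set G) ≤ S
  stab : ∀ y ∈ S, y ∈ Subgroup.normalizer (Q : Set G) ∧
    StabilizesBlock (Subgroup.centralizer (Q : Set G)) f y

section Sub

variable {Q : Subgroup G} {f : Set (IrrCharacter (Subgroup.centralizer (Q : Set G)))}
  {S : Subgroup G}

theorem isSub_of_isStab (h : IsStab Q f S) : IsSub Q f S :=
  ⟨h.le, h.centralizer_le, fun y hy => (h y).1 hy⟩

theorem isSub_of_le {T : Subgroup G} (h : IsStab Q f T) (h1 : Q ≤ S)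
    (h2 : Subgroup.centralizer (Q : Set G) ≤ S) (h3 : S ≤ T) : IsSub Q f S :=
  ⟨h1, h2, fun y hy => (h y).1 (h3 hy)⟩

theorem IsSub.le_of_isStab {T : Subgroup G} (h : IsSub Q f S) (hT : IsStab Q f T) : S ≤ T :=
  fun y hy => (hT y).2 (h.stab y hy)

theorem IsSub.le_normalizer (h : IsSub Q f S) : S ≤ Subgroup.normalizer (Q : Set G) :=
  fun x hx => (h.stab x hx).1

theorem IsSub.normal_subgroupOf (h : IsSub Q f S) : (Q.subgroupOf S).Normal := by
  refine ⟨fun x hx t => ?_⟩
  rw [Subgroup.mem_subgroupOf] at hx ⊢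
  exact (Subgroup.mem_normalizer_iff.1 (h.le_normalizer t.2) _).1 hx

theorem IsSub.normal_centralizer (h : IsSub Q f S) :
    ((Subgroup.centralizer (Q : Set G)).subgroupOf S).Normal := by
  refine ⟨fun x hx t => ?_⟩
  rw [Subgroup.mem_subgroupOf] at hx ⊢
  exact (Subgroup.mem_normalizer_iff.1
    (mem_normalizer_centralizer (h.le_normalizer t.2)) _).1 hx

end Sub

section Exists

variable [Finite G] {Q : Subgroup G}
  {f : Set (IrrCharacter (Subgroup.centralizer (Q : Set G)))} {T : Subgroup G}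

/-- The transported block of `C_G(Q)` as a normal subgroup of `S` is `S`-invariant. -/
theorem lyingOver_of_isSub (hT : IsSub Q f T) (N : Subgroup T) [N.Normal] [Fintype T]
    [Fintype N] (i : N ≃* Subgroup.centralizer (Q : Set G))
    (hN : ∀ t : T, t ∈ N ↔ (t : G) ∈ Subgroup.centralizer (Q : Set G))
    (hi : ∀ n : N, ((i n : Subgroup.centralizer (Q : Set G)) : G) = ((n : T) : G)) :
    (∀ (g : T) (θ : IrrCharacter N), θ ∈ blkMap i.symm f → cj N g θ ∈ blkMap i.symm f) ∧
    (∀ χ ∈ lyingOver N (blkMap i.symm f), ∀ ψ : IrrCharacter N,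
      classInner (fun n : N => (χ : T → ℂ) n) (ψ : N → ℂ) ≠ 0 → ψ ∈ blkMap i.symm f) ∧
    ∀ t : T, blockCoeff (lyingOver N (blkMap i.symm f)) t =
      subgroupBlockCoeff (Subgroup.centralizer (Q : Set G)) f (t : G) := by
  classical
  let b : Set (IrrCharacter N) := blkMap i.symm f
  have hinv : ∀ (g : T) (θ : IrrCharacter N), θ ∈ b → cj N g θ ∈ b := by
    rintro g _ ⟨χ, hχ, rfl⟩
    obtain ⟨-, -, h⟩ := hT.stab (g⁻¹ : T) (g⁻¹).2
    obtain ⟨χ', hχ', h'⟩ := h χ hχ
    refine ⟨χ', hχ', ?_⟩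
    apply Subtype.ext
    funext n
    rw [cj_apply, irrMap_apply, irrMap_apply]
    apply h' (i (MulAut.conjNormal g n)) (i n)
    rw [hi, hi, MulAut.conjNormal_apply]
    push_cast
    group
  have hcl : ∀ χ ∈ lyingOver N b, ∀ ψ : IrrCharacter N,
      classInner (fun n : N => (χ : T → ℂ) n) (ψ : N → ℂ) ≠ 0 → ψ ∈ b := by
    rintro χ ⟨θ, hθ, hne⟩ ψ hψ
    obtain ⟨g, hg⟩ := Cfsg.Agent.Characters.Clifford.exists_conj_of_constituents N χ.2 θ.2 ψ.2
      hne hψ
    have h1 : ψ = cj N g θ := Subtype.ext hg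
    rw [h1]
    exact hinv g θ hθ
  have hcoef : ∀ t : T, blockCoeff (lyingOver N b) t =
      subgroupBlockCoeff (Subgroup.centralizer (Q : Set G)) f (t : G) := by
    intro t
    rw [Cfsg.Agent.Blocks.Fong.blockCoeff_lyingOver N b hinv hcl t]
    by_cases ht : t ∈ N
    · rw [dif_pos ht, subgroupBlockCoeff_of_mem _ _ ((hN t).1 ht),
        blockCoeff_blkMap' i.symm f ⟨t, ht⟩]
      congr 1
      exact Subtype.ext (hi ⟨t, ht⟩)
    · rw [dif_neg ht, subgroupBlockCoeff_of_notMem _ _ (fun h => ht ((hN t).2 h))]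
  exact ⟨hinv, hcl, hcoef⟩

/-- The idempotent of `f` is a block idempotent of `S`. -/
theorem exists_block_of_isSub (hM : IsPModular p M) (hQ : IsPGroup p Q) (hf : IsPBlock M f)
    (hT : IsSub Q f T) : ∃ F : Set (IrrCharacter T), IsPBlock M F ∧
      ∀ t : T, blockCoeff F t =
        subgroupBlockCoeff (Subgroup.centralizer (Q : Set G)) f (t : G) := by
  classical
  have hp : M.IsPrime := isPrime_of_isPModular hM
  have hnor : ((Subgroup.centralizer (Q : Set G)).subgroupOf T).Normal := hT.normal_centralizer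
  have hQn : (Q.subgroupOf T).Normal := hT.normal_subgroupOf
  have : Fintype T := Fintype.ofFinite T
  have : Fintype ((Subgroup.centralizer (Q : Set G)).subgroupOf T) := Fintype.ofFinite _
  have hQT : IsPGroup p (Q.subgroupOf T) :=
    hQ.comap_of_injective T.subtype (Subgroup.subtype_injective T)
  set N : Subgroup T := (Subgroup.centralizer (Q : Set G)).subgroupOf T with hN
  obtain ⟨hinv, hcl, hcoef⟩ := lyingOver_of_isSub hT N
    (Subgroup.subgroupOfEquivOfLe hT.centralizer_le) (fun _ => Iff.rfl) (fun _ => rfl)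
  set b : Set (IrrCharacter N) := blkMap (Subgroup.subgroupOfEquivOfLe hT.centralizer_le).symm f
    with hbdef
  have hb : IsPBlock M b := isPBlock_blkMap hf
  refine ⟨lyingOver N b, ?_, hcoef⟩
  -- nonempty
  have hne : (lyingOver N b).Nonempty := by
    by_contra hcon
    rw [Set.not_nonempty_iff_eq_empty] at hcon
    have h1 : f = ∅ := by
      apply eq_of_blockCoeff
      intro c
      have h2 := hcoef ⟨(c : G), hT.centralizer_le c.2⟩
      rw [subgroupBlockCoeff_coe, hcon] at h2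
      rw [← h2]
      simp [blockCoeff]
    obtain ⟨ξ, hξ⟩ := isPBlock_nonempty hf
    rw [h1] at hξ
    exact hξ
  obtain ⟨χ₀, hχ₀⟩ := hne
  have hF : IsPBlock M (blockOf M (χ₀ : T → ℂ)) := ⟨χ₀, rfl⟩
  have hsub : blockOf M (χ₀ : T → ℂ) ⊆ lyingOver N b := by
    apply Cfsg.Agent.S0909.result p M hM _ _ χ₀ hχ₀
    intro t
    rw [Cfsg.Agent.Blocks.Fong.blockCoeff_lyingOver N b hinv hcl t]
    split_ifs with ht
    · exact Cfsg.Agent.S0913.result p M hM b hb ⟨t, ht⟩
    · exact Cfsg.Agent.Blocks.Local.memLocalRing_zero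
  have h1 := lyingOver_underSet hM hF (Q.subgroupOf T) hQT N (centralizer_subgroupOf_of_le hT.le)
  have h2 : underSet N (blockOf M (χ₀ : T → ℂ)) = b := by
    have h3 : underSet N (blockOf M (χ₀ : T → ℂ)) ⊆ b := by
      rintro θ ⟨χ, hχ, h⟩
      exact hcl χ (hsub hχ) θ h
    refine h3.antisymm ?_
    obtain ⟨θ, hθ⟩ := Cfsg.Agent.Blocks.Fong.exists_constituent N χ₀
    have h4 : θ ∈ underSet N (blockOf M (χ₀ : T → ℂ)) :=
      ⟨χ₀, Cfsg.Agent.Blocks.Basic.mem_blockOf_self χ₀, hθ⟩
    have h5 : blockOf M (θ : N → ℂ) ⊆ underSet N (blockOf M (χ₀ : T → ℂ)) := by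
      apply Cfsg.Agent.S0909.result p M hM _ _ θ h4
      intro n
      have h6 := Cfsg.Agent.H646.NormalSupport.blockCoeff_eq hM hF (Q.subgroupOf T) hQT N
        (centralizer_subgroupOf_of_le hT.le) (n : T)
      rw [dif_pos n.2] at h6
      change MemLocalRing M (blockCoeff _ (⟨(n : T), n.2⟩ : N))
      rw [← h6]
      exact Cfsg.Agent.S0913.result p M hM _ hF _
    have h6 : b = blockOf M (θ : N → ℂ) :=
      Cfsg.Agent.Blocks.Fong.isPBlock_eq_blockOf hp hb (h3 h4)
    rw [h6]
    exact h5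
  rw [h2] at h1
  rw [h1]
  exact hF

end Exists

section Up

variable {Q : Subgroup G} {f : Set (IrrCharacter (Subgroup.centralizer (Q : Set G)))}
  {T : Subgroup G}

/-- The pair of `G` attached to a pair of `S` whose centralizer lies in `S`. -/
def upIdx (T : Subgroup G) (a : BrauerPairIdx T)
    (h : Subgroup.centralizer ((a.1.map T.subtype : Subgroup G) : Set G) ≤ T) :
    BrauerPairIdx G := ⟨a.1.map T.subtype, blkMap (upIso T a.1 h) a.2⟩

theorem centralizer_map_le (hC : Subgroup.centralizer (Q : Set G) ≤ T) {R : Subgroup T}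
    (hQR : Q ≤ R.map T.subtype) :
    Subgroup.centralizer ((R.map T.subtype : Subgroup G) : Set G) ≤ T :=
  (Subgroup.centralizer_le hQR).trans hC

/-- Every pair of `G` whose subgroup and centralizer lie in `S` comes from `S`. -/
theorem exists_upIdx (b : BrauerPairIdx G) (h1 : b.1 ≤ T)
    (h2 : Subgroup.centralizer (b.1 : Set G) ≤ T) :
    ∃ (a : BrauerPairIdx T)
      (h : Subgroup.centralizer ((a.1.map T.subtype : Subgroup G) : Set G) ≤ T),
      upIdx T a h = b := by
  obtain ⟨R', g⟩ := b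
  obtain ⟨R, rfl⟩ : ∃ R : Subgroup T, R.map T.subtype = R' :=
    ⟨R'.subgroupOf T, Subgroup.map_subgroupOf_eq_of_le h1⟩
  refine ⟨⟨R, blkMap (upIso T R h2).symm g⟩, h2, ?_⟩
  rw [upIdx]
  change (⟨R.map T.subtype, blkMap (upIso T R h2) (blkMap (upIso T R h2).symm g)⟩ :
    BrauerPairIdx G) = _
  rw [blkMap_blkMap_symm]

theorem upIdx_test (a : BrauerPairIdx T)
    (h : Subgroup.centralizer ((a.1.map T.subtype : Subgroup G) : Set G) ≤ T) (φ : G → ℂ) :
    Tst (upIdx T a h) φ ↔ Tst a (fun t => φ (t : G)) := by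
  constructor
  · rintro ⟨_, ⟨ξ, hξ, rfl⟩, h'⟩
    refine ⟨ξ, hξ, fun k => ?_⟩
    have h1 := h' (upIso T a.1 h k)
    rwa [irrMap_apply'] at h1
  · rintro ⟨ξ, hξ, h'⟩
    refine ⟨irrMap (upIso T a.1 h) ξ, ⟨ξ, hξ, rfl⟩, fun k => ?_⟩
    exact h' ((upIso T a.1 h).symm k)

theorem conj_map_subtype (a : Subgroup T) (x : T) :
    (a.map (MulAut.conj x).toMonoidHom).map T.subtype =
      (a.map T.subtype).map (MulAut.conj (x : G)).toMonoidHom := by
  rw [Subgroup.map_map, Subgroup.map_map]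
  rfl

theorem centralizer_conj_le (a : BrauerPairIdx T)
    (h : Subgroup.centralizer ((a.1.map T.subtype : Subgroup G) : Set G) ≤ T) (x : T) :
    Subgroup.centralizer (((conjIdx x a).1.map T.subtype : Subgroup G) : Set G) ≤ T := by
  change Subgroup.centralizer
    (((a.1.map (MulAut.conj x).toMonoidHom).map T.subtype : Subgroup G) : Set G) ≤ T
  rw [conj_map_subtype, centralizer_map]
  rintro _ ⟨y, hy, rfl⟩
  exact T.mul_mem (T.mul_mem x.2 (h hy)) (T.inv_mem x.2)

theorem conjIdx_upIdx (a : BrauerPairIdx T)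
    (h : Subgroup.centralizer ((a.1.map T.subtype : Subgroup G) : Set G) ≤ T) (x : T) :
    conjIdx (x : G) (upIdx T a h) = upIdx T (conjIdx x a) (centralizer_conj_le a h x) := by
  refine idx_ext ?_ fun φ => ?_
  · exact (conj_map_subtype a.1 x).symm
  · rw [upIdx_test]
    refine (idxMap_test (MulAut.conj (x : G)) _ φ).trans ((upIdx_test a h _).trans ?_)
    exact (idxMap_test (MulAut.conj x) a (fun c => φ (c : G))).symm

theorem stabilizesBlock_up {R : Subgroup T}
    (h : Subgroup.centralizer ((R.map T.subtype : Subgroup G) : Set G) ≤ T)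
    {g : Set (IrrCharacter (Subgroup.centralizer (R : Set T)))} {x : T}
    (hx : x ∈ Subgroup.normalizer (R : Set T))
    (hs : StabilizesBlock (Subgroup.centralizer (R : Set T)) g x) :
    StabilizesBlock (Subgroup.centralizer ((R.map T.subtype : Subgroup G) : Set G))
      (blkMap (upIso T R h) g) (x : G) := by
  refine ⟨mem_normalizer_centralizer ?_, ?_⟩
  · rw [mem_normalizer_iff_map_conj, ← conj_map_subtype, (mem_normalizer_iff_map_conj R x).1 hx]
  · rintro _ ⟨χ, hχ, rfl⟩
    obtain ⟨χ', hχ', h1⟩ := hs.2 χ hχ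
    refine ⟨irrMap (upIso T R h) χ', irrMap_mem_blkMap.2 hχ', fun k k' hk => ?_⟩
    rw [irrMap_apply, irrMap_apply]
    apply h1
    exact Subtype.ext hk

theorem subgroupBlockCoeff_up {R : Subgroup T}
    (h : Subgroup.centralizer ((R.map T.subtype : Subgroup G) : Set G) ≤ T)
    (g : Set (IrrCharacter (Subgroup.centralizer (R : Set T)))) (t : T) :
    subgroupBlockCoeff (Subgroup.centralizer ((R.map T.subtype : Subgroup G) : Set G))
      (blkMap (upIso T R h) g) (t : G) =
      subgroupBlockCoeff (Subgroup.centralizer (R : Set T)) g t := by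
  by_cases ht : t ∈ Subgroup.centralizer (R : Set T)
  · rw [subgroupBlockCoeff_of_mem _ _ ht,
      subgroupBlockCoeff_of_mem _ _ ((mem_centralizer_map_subtype t).2 ht)]
    exact blockCoeff_blkMap (upIso T R h) g ⟨t, ht⟩
  · rw [subgroupBlockCoeff_of_notMem _ _ ht, subgroupBlockCoeff_of_notMem _ _
      (fun h1 => ht ((mem_centralizer_map_subtype t).1 h1))]

theorem brauerOmega_up' {β : G → ℂ} {β' : T → ℂ} (hβ : ∀ t : T, β' t = β (t : G))
    (R : Subgroup T)
    (h : Subgroup.centralizer ((R.map T.subtype : Subgroup G) : Set G) ≤ T)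
    (ξ : IrrCharacter (Subgroup.centralizer (R : Set T))) :
    brauerOmega (R.map T.subtype) β (irrMap (upIso T R h) ξ : _ → ℂ) =
      brauerOmega R β' (ξ : _ → ℂ) := by
  rw [brauerOmega, brauerOmega]
  refine (finsum_eq_of_bijective (upIso T R h) (upIso T R h).bijective fun x => ?_).symm
  rw [irrMap_apply', irrMap_one, upIso_coe, hβ]

theorem normalSubpairRel_up {a b : BrauerPairIdx T}
    (ha : Subgroup.centralizer ((a.1.map T.subtype : Subgroup G) : Set G) ≤ T)
    (hb : Subgroup.centralizer ((b.1.map T.subtype : Subgroup G) : Set G) ≤ T)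
    (h : NormalSubpairRel p M a b) : NormalSubpairRel p M (upIdx T a ha) (upIdx T b hb) := by
  obtain ⟨h1, h2, h3, h4, h5, h6⟩ := h
  refine ⟨⟨h1.1.map _, isPBlock_blkMap h1.2⟩, ⟨h2.1.map _, isPBlock_blkMap h2.2⟩,
    Subgroup.map_mono h3, ?_, ?_, ?_⟩
  · rintro _ ⟨x, hx, rfl⟩
    change (x : G) ∈ Subgroup.normalizer ((a.1.map T.subtype : Subgroup G) : Set G)
    rw [mem_normalizer_iff_map_conj, ← conj_map_subtype,
      (mem_normalizer_iff_map_conj a.1 x).1 (h4 hx)]
  · rintro _ ⟨x, hx, rfl⟩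
    exact stabilizesBlock_up ha (h4 hx) (h5 x hx)
  · rintro _ ⟨ξ, hξ, rfl⟩
    have h7 := h6 ξ hξ
    rw [← brauerOmega_up' (fun t => (subgroupBlockCoeff_up ha a.2 t).symm) b.1 hb ξ] at h7
    exact h7

theorem leIdx_up {a b : BrauerPairIdx T}
    (ha : Subgroup.centralizer ((a.1.map T.subtype : Subgroup G) : Set G) ≤ T)
    (h : LEIdx p M a b)
    (hb : Subgroup.centralizer ((b.1.map T.subtype : Subgroup G) : Set G) ≤ T) :
    LEIdx p M (upIdx T a ha) (upIdx T b hb) := by
  induction h with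
  | refl => exact Relation.ReflTransGen.refl
  | @tail c d h1 h2 ih =>
    have hc : Subgroup.centralizer ((c.1.map T.subtype : Subgroup G) : Set G) ≤ T :=
      (Subgroup.centralizer_le (Subgroup.map_mono (f := T.subtype) (LEIdx.le h1))).trans ha
    exact (ih hc).tail (normalSubpairRel_up hc hb h2)

/-- The Brauer pairs of the block of `S` on subgroups containing `Q` are the Brauer
pairs of `G` normally above `(Q, f)`. -/
theorem normalSubpairRel_up_iff (hQ : IsPGroup p Q) (hf : IsPBlock M f) (hT : IsSub Q f T)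
    {F : Set (IrrCharacter T)} (hF : IsPBlock M F)
    (hFc : ∀ t : T, blockCoeff F t =
      subgroupBlockCoeff (Subgroup.centralizer (Q : Set G)) f (t : G)) {a : BrauerPairIdx T}
    (hQR : Q ≤ a.1.map T.subtype)
    (ha : Subgroup.centralizer ((a.1.map T.subtype : Subgroup G) : Set G) ≤ T) :
    NormalSubpairRel p M ⟨Q, f⟩ (upIdx T a ha) ↔ IsBrauerPairOf p M F a.1 a.2 := by
  constructor
  · rintro ⟨-, ⟨h1, h2⟩, -, -, -, h6⟩
    refine ⟨⟨?_, isPBlock_blkMap_iff.1 h2⟩, hF, fun ξ hξ => ?_⟩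
    · have h3 := h1.comap_of_injective T.subtype (Subgroup.subtype_injective T)
      change IsPGroup p ((a.1.map T.subtype).comap T.subtype : Subgroup T) at h3
      rwa [Subgroup.comap_map_eq_self_of_injective (Subgroup.subtype_injective T)] at h3
    · have h7 := h6 (irrMap (upIso T a.1 ha) ξ) (irrMap_mem_blkMap.2 hξ)
      change MemLocalIdeal M (brauerOmega (a.1.map T.subtype) _
        (irrMap (upIso T a.1 ha) ξ : _ → ℂ) - 1) at h7
      rwa [brauerOmega_up' hFc] at h7
  · rintro ⟨⟨h1, h2⟩, -, h4⟩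
    refine ⟨⟨hQ, hf⟩, ⟨h1.map _, isPBlock_blkMap h2⟩, hQR,
      (Subgroup.map_subtype_le a.1).trans hT.le_normalizer, fun x hx => ?_, ?_⟩
    · exact (hT.stab x (Subgroup.map_subtype_le a.1 hx)).2
    · rintro _ ⟨ξ, hξ, rfl⟩
      change MemLocalIdeal M (brauerOmega (a.1.map T.subtype) _
        (irrMap (upIso T a.1 ha) ξ : _ → ℂ) - 1)
      rw [brauerOmega_up' hFc]
      exact h4 ξ hξ

end Up

end Cfsg.Agent.H648
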