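import Mathlib
import Cfsg.Agent.H365.Zsig

/-!
# Sums of two squares and large Zsigmondy primes

`cases_of_ss`: if `p ^ n - 1` is a sum of two squares up to squares (`n ≥ 2`) and there is no large
Zsigmondy prime for `p ^ n - 1`, then `p ^ n` is `9` or `81`.
-/

set_option autoImplicit false

namespace Cfsg.Agent.H648.TransArith

open Cfsg.Agent.H365.Zsig

/-- All primes congruent to `3` modulo `4` divide `N` to an even power. -/
def SS (N : ℕ) : Prop := ∀ q : ℕ, q.Prime → q % 4 = 3 → Even (padicValNat q N)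

theorem ss_of {N f a b : ℕ} (hN : N ≠ 0) (hf : f ≠ 0) (h : N * f ^ 2 = a ^ 2 + b ^ 2) : SS N := by
  intro q hq hq3
  have := Fact.mk hq
  have h1 := Nat.eq_sq_add_sq_iff.1 ⟨a, b, h⟩
  by_cases hqN : q ∣ N
  · have h2 := h1 q (by
      rw [Nat.mem_primeFactors]
      exact ⟨hq, hqN.mul_right _, mul_ne_zero hN (pow_ne_zero _ hf)⟩) hq3
    rw [padicValNat.mul hN (pow_ne_zero _ hf), padicValNat.pow, Nat.even_add] at h2
    exact h2.2 (even_two_mul _)
  · rw [padicValNat.eq_zero_of_not_dvd hqN]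
    exact Even.zero

theorem exists_of_ss {N : ℕ} (h : SS N) : ∃ x y, N = x ^ 2 + y ^ 2 :=
  Nat.eq_sq_add_sq_iff.2 fun q hq hq3 => h q (Nat.prime_of_mem_primeFactors hq) hq3

theorem not_ss_of_mod {N : ℕ} (h : N % 4 = 3) : ¬ SS N := by
  intro hs
  obtain ⟨x, y, hxy⟩ := exists_of_ss hs
  have hx : x ^ 2 % 4 = 0 ∨ x ^ 2 % 4 = 1 := by
    have : x % 4 = 0 ∨ x % 4 = 1 ∨ x % 4 = 2 ∨ x % 4 = 3 := by omega
    rcases this with h | h | h | h <;> simp [Nat.pow_mod, h]
  have hy : y ^ 2 % 4 = 0 ∨ y ^ 2 % 4 = 1 := by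
    have : y % 4 = 0 ∨ y % 4 = 1 ∨ y % 4 = 2 ∨ y % 4 = 3 := by omega
    rcases this with h | h | h | h <;> simp [Nat.pow_mod, h]
  omega

theorem ss_of_two_pow_mul {k m : ℕ} (hm : m ≠ 0) (h : SS (2 ^ k * m)) : SS m := by
  intro q hq hq3
  have := Fact.mk hq
  have h1 := h q hq hq3
  rw [padicValNat.mul (pow_ne_zero _ two_ne_zero) hm, padicValNat.pow,
    padicValNat.eq_zero_of_not_dvd (n := 2), mul_zero, zero_add] at h1
  · exact h1
  · intro h2
    have := (Nat.prime_dvd_prime_iff_eq hq Nat.prime_two).1 h2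
    omega

theorem two_pow_sub_one {n : ℕ} (hn : 2 ≤ n) : (2 ^ n - 1) % 4 = 3 := by
  obtain ⟨k, rfl⟩ := Nat.exists_eq_add_of_le hn
  rw [pow_add]
  have : 0 < 2 ^ k := by positivity
  omega

theorem ne_two_of_ss {p n : ℕ} (hn : 2 ≤ n) (h : SS (p ^ n - 1)) : p ≠ 2 := by
  rintro rfl
  exact not_ss_of_mod (two_pow_sub_one hn) h

theorem not_ss_of_seven {N : ℕ} (h1 : 7 ∣ N) (h2 : ¬ 49 ∣ N) (h0 : N ≠ 0) : ¬ SS N := by
  intro h
  have : Fact (Nat.Prime 7) := ⟨by norm_num⟩
  have h3 := h 7 (by norm_num) (by norm_num)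
  have h4 : 1 ≤ padicValNat 7 N := one_le_padicValNat_of_dvd h0 h1
  have h5 : padicValNat 7 N < 2 := by
    by_contra h6
    apply h2
    have h7 : 7 ^ 2 ∣ N := (padicValNat_dvd_iff_le h0).2 (not_lt.1 h6)
    simpa using h7
  have h6 : padicValNat 7 N = 1 := by omega
  rw [h6] at h3
  exact absurd h3 (by decide)

theorem cases_of_ss {p n : ℕ} (hp : p.Prime) (hn : 2 ≤ n) (h : SS (p ^ n - 1))
    (hL : ¬ Large p n) : p = 3 ∧ (n = 2 ∨ n = 4) := by
  have hp2 : p ≠ 2 := ne_two_of_ss hn h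
  have hpodd : p % 2 = 1 := by
    rcases hp.eq_two_or_odd with h | h
    · exact absurd h hp2
    · exact h
  have hp3 : 3 ≤ p := by
    have := hp.two_le
    omega
  by_contra hcon
  apply hL
  apply large_zsigmondy p n hp.two_le hn
  · rintro ⟨rfl, s, t, ht, hst⟩
    have ht' : t = 0 ∨ t = 1 := by omega
    have hN : p ^ 2 - 1 = (p - 1) * (p + 1) := by
      obtain ⟨k, rfl⟩ := Nat.exists_eq_add_of_le hp3
      have : (3 + k) ^ 2 = (3 + k - 1) * (3 + k + 1) + 1 := by
        have : 3 + k - 1 = 2 + k := by omega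
        rw [this]; ring
      omega
    rcases ht' with rfl | rfl
    · rw [pow_zero, mul_one] at hst
      -- `p + 1 = 2 ^ s`
      have hs2 : 3 ≤ s := by
        by_contra hs
        have : s = 0 ∨ s = 1 ∨ s = 2 := by omega
        rcases this with rfl | rfl | rfl
        · omega
        · omega
        · exact hcon ⟨by omega, Or.inl rfl⟩
      obtain ⟨r, rfl⟩ := Nat.exists_eq_add_of_le hs2
      have h1 : p ^ 2 - 1 = 2 ^ (r + 4) * (2 ^ (r + 2) - 1) := by
        rw [hN]
        have h2 : p + 1 = 2 ^ (3 + r) := hst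
        have h3 : p - 1 = 2 * (2 ^ (r + 2) - 1) := by
          have h4 : 2 ^ (3 + r) = 2 * 2 ^ (r + 2) := by ring
          have h5 : 0 < 2 ^ (r + 2) := by positivity
          omega
        rw [h2, h3]
        ring
      rw [h1] at h
      have h5 : 4 ≤ 2 ^ (r + 2) := by
        calc 4 = 2 ^ 2 := by norm_num
          _ ≤ 2 ^ (r + 2) := Nat.pow_le_pow_right (by norm_num) (by omega)
      have h2 := ss_of_two_pow_mul (by omega) h
      exact not_ss_of_mod (two_pow_sub_one (by omega)) h2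
    · rw [pow_one] at hst
      -- `p + 1 = 3 * 2 ^ s`: the exponent of `3` is one
      have : Fact (Nat.Prime 3) := ⟨by norm_num⟩
      have h1 := h 3 (by norm_num) (by norm_num)
      rw [hN, padicValNat.mul (by omega) (by omega), hst,
        padicValNat.mul (pow_ne_zero _ two_ne_zero) (by norm_num), padicValNat_self,
        padicValNat.eq_zero_of_not_dvd (n := p - 1),
        padicValNat.eq_zero_of_not_dvd (n := 2 ^ s)] at h1
      · exact absurd h1 (by decide)
      · intro h2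
        have := (Nat.Prime.dvd_of_dvd_pow (by norm_num) h2 : 3 ∣ 2)
        omega
      · omega
  · rintro ⟨h1, -⟩
    exact hp2 h1
  · rintro ⟨rfl, rfl | rfl⟩
    · exact hcon ⟨rfl, Or.inr rfl⟩
    · exact not_ss_of_seven (by norm_num) (by norm_num) (by norm_num) h
  · rintro ⟨rfl, rfl⟩
    exact not_ss_of_seven (by norm_num) (by norm_num) (by norm_num) h

end Cfsg.Agent.H648.TransArith
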