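import Mathlib
import Cfsg.Agent.H648.TransArith
import Cfsg.Agent.H697.Hering

/-!
# Linear groups transitive on nonzero vectors in which few elements have a cyclic centralizer

`H` is a group of linear maps of the finite space `V` over the prime field of order `p`, of order
prime to `p` and transitive on the nonzero vectors, `|H|` is a sum of two squares, the
stabilizers of the vectors have square order, and any two nonidentity elements of `H` with cyclic
centralizers are conjugate.  Then `|V| ≤ 3`.
-/

set_option autoImplicit false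

namespace Cfsg.Agent.H648.LinTrans

open Module Subgroup
open Cfsg.Agent.PermutationGroups.RegularLinear
open Cfsg.Agent.LieRecognition.FT61 Cfsg.Agent.H697 Cfsg.Agent.H648.TransArith
open Cfsg.Agent.H365.Zsig

/-- Any two nonidentity elements with cyclic centralizers are conjugate. -/
def G2 (D : Type*) [Group D] : Prop := ∀ x y : D, x ≠ 1 → y ≠ 1 →
  IsCyclic (centralizer ({x} : Set D)) → IsCyclic (centralizer ({y} : Set D)) → IsConj x y

section grp

variable {D : Type*} [Group D]

theorem isCyclic_of_le {A B : Subgroup D} (h : A ≤ B) (hB : IsCyclic B) : IsCyclic A :=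
  isCyclic_of_injective (inclusion h) (inclusion_injective h)

theorem orderOf_eq_of_isConj {x y : D} (h : IsConj x y) : orderOf x = orderOf y := by
  obtain ⟨c, hc⟩ := isConj_iff.1 h
  rw [← hc]
  exact (MulEquiv.orderOf_eq (MulAut.conj c) x).symm

theorem centralizer_le_pow (x : D) (k : ℕ) :
    centralizer ({x} : Set D) ≤ centralizer ({x ^ k} : Set D) := by
  intro g hg
  rw [mem_centralizer_singleton_iff] at hg ⊢
  exact ((show Commute g x from hg).pow_right k)

variable [Finite D] {p n : ℕ} [Fact p.Prime] (σ : D →* GL (Fin n) (ZMod p))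

/-- The square of a primitive prime divisor does not divide the order. -/
theorem sq_not_dvd (hσ : Function.Injective σ) (hG : G2 D) {s : ℕ} (hs : s.Prime)
    (hsn : s ∣ p ^ n - 1) (hsd : ∀ d, 0 < d → d < n → ¬ s ∣ p ^ d - 1) :
    ¬ s ^ 2 ∣ Nat.card D := by
  intro h
  have := Fact.mk hs
  obtain ⟨P⟩ : Nonempty (Sylow s D) := inferInstance
  have hcyc : ∀ z : D, orderOf z = s → IsCyclic (centralizer ({z} : Set D)) := fun z hz =>
    HeringMat.isCyclic_centralizer σ hσ hs hsn hsd hz
  have hP2 : s ^ 2 ∣ Nat.card P := Sylow.pow_dvd_card_of_pow_dvd_card P h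
  have hPne : (P : Subgroup D) ≠ ⊥ := by
    intro h0
    have h1 : Nat.card P = 1 := by
      change Nat.card (P : Subgroup D) = 1
      rw [h0, card_bot]
    rw [h1] at hP2
    have h2 := Nat.dvd_one.1 hP2
    have h3 := hs.two_le
    nlinarith
  have hPc : IsCyclic P := Grp.isCyclic_sylow hcyc P hPne
  obtain ⟨g, hg⟩ := IsCyclic.exists_ofOrder_eq_natCard (α := P)
  obtain ⟨m, hm⟩ := hP2
  have hPpos : 0 < Nat.card P := Nat.card_pos
  have hm0 : 0 < m := by
    apply Nat.pos_of_ne_zero
    rintro rfl
    omega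
  have hs0 := hs.pos
  have hsne : s ≠ 1 := hs.one_lt.ne'
  have ho1 : orderOf ((g : D) ^ m) = s ^ 2 := by
    rw [orderOf_pow_of_dvd hm0.ne' (by rw [Subgroup.orderOf_coe, hg, hm]; exact dvd_mul_left _ _),
      Subgroup.orderOf_coe, hg, hm, Nat.mul_div_cancel _ hm0]
  have ho2 : orderOf (((g : D) ^ m) ^ s) = s := by
    rw [orderOf_pow_of_dvd hs0.ne' (by rw [ho1]; exact dvd_pow_self _ two_ne_zero), ho1, pow_two,
      Nat.mul_div_cancel _ hs0]
  have hc2 := hcyc _ ho2
  have hc1 := isCyclic_of_le (centralizer_le_pow ((g : D) ^ m) s) hc2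
  have hconj := hG ((g : D) ^ m) (((g : D) ^ m) ^ s) (by
    intro h1
    rw [h1, orderOf_one] at ho1
    nlinarith [hs.two_le]) (by
    intro h1
    rw [h1, orderOf_one] at ho2
    exact hsne ho2.symm) hc1 hc2
  have h1 := orderOf_eq_of_isConj hconj
  rw [ho1, ho2] at h1
  nlinarith [hs.two_le]

/-- A primitive prime divisor is at most `n + 1`. -/
theorem le_of_ppd (hσ : Function.Injective σ) (hG : G2 D) {s : ℕ} (hs : s.Prime)
    (hsn : s ∣ p ^ n - 1) (hsd : ∀ d, 0 < d → d < n → ¬ s ∣ p ^ d - 1)
    (hsD : s ∣ Nat.card D) : s ≤ n + 1 := by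
  have := Fact.mk hs
  have hcyc : ∀ z : D, orderOf z = s → IsCyclic (centralizer ({z} : Set D)) := fun z hz =>
    HeringMat.isCyclic_centralizer σ hσ hs hsn hsd hz
  obtain ⟨z, hz⟩ := exists_prime_orderOf_dvd_card' s hsD
  set C : Subgroup D := centralizer ({z} : Set D) with hC
  set N : Subgroup D := normalizer (C : Set D) with hN
  have hord : ∀ j : Fin (s - 1), orderOf (z ^ ((j : ℕ) + 1)) = s := by
    intro j
    have hj := j.2
    have h1 : orderOf (z ^ ((j : ℕ) + 1)) ∣ s := (orderOf_pow_dvd _).trans hz.dvd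
    rcases (Nat.dvd_prime hs).1 h1 with h2 | h2
    · rw [orderOf_eq_one_iff] at h2
      have h3 := orderOf_dvd_of_pow_eq_one h2
      rw [hz] at h3
      have := Nat.le_of_dvd (Nat.succ_pos _) h3
      omega
    · exact h2
  have hz1 : z ≠ 1 := by
    intro h
    rw [h, orderOf_one] at hz
    exact hs.one_lt.ne hz
  have hconj : ∀ j : Fin (s - 1), ∃ g : D, g * z * g⁻¹ = z ^ ((j : ℕ) + 1) := by
    intro j
    have h1 := hG z (z ^ ((j : ℕ) + 1)) hz1 (by
      intro h
      have := hord j
      rw [h, orderOf_one] at this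
      exact hs.one_lt.ne this) (hcyc z hz) (hcyc _ (hord j))
    exact isConj_iff.1 h1
  choose g hg using hconj
  have hgN : ∀ j, g j ∈ N := by
    intro j
    apply HeringMat.normalizer_zpowers_le z
    have h1 : ∀ k : ℤ, g j * z ^ k * (g j)⁻¹ ∈ zpowers z := by
      intro k
      rw [← conj_zpow, hg j]
      exact Subgroup.zpow_mem _ (Subgroup.pow_mem _ (mem_zpowers z) _) k
    have hfin : ((zpowers z : Subgroup D) : Set D).Finite := Set.toFinite _
    rw [mem_normalizer_iff]
    have hmap : (zpowers z).map (MulAut.conj (g j)).toMonoidHom = zpowers z := by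
      apply Subgroup.eq_of_le_of_card_ge
      · rintro _ ⟨_, ⟨k, rfl⟩, rfl⟩
        exact h1 k
      · rw [Nat.card_congr ((zpowers z).equivMapOfInjective _
          (MulAut.conj (g j)).injective).toEquiv.symm]
    intro y
    constructor
    · rintro ⟨k, rfl⟩
      exact h1 k
    · intro hy
      rw [← hmap] at hy
      obtain ⟨y', hy', h2⟩ := hy
      have h3 : y' = y := by
        have h4 : g j * y' * (g j)⁻¹ = g j * y * (g j)⁻¹ := h2
        exact mul_left_cancel (mul_right_cancel h4)
      rw [← h3]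
      exact hy'
  have hcard := HeringMat.card_normalizer_le σ hσ hs hsn hsd hz
  rw [← hC, ← hN] at hcard
  have hCN : C ≤ N := le_normalizer
  have hrel : Nat.card C * (C.subgroupOf N).index = Nat.card N := by
    rw [← (C.subgroupOf N).card_mul_index]
    congr 1
    exact (Nat.card_congr (subgroupOfEquivOfLe hCN).toEquiv).symm
  have hle : (C.subgroupOf N).index ≤ n := by
    have h0 : 0 < Nat.card C := Nat.card_pos
    rw [← hrel, mul_comm n] at hcard
    exact Nat.le_of_mul_le_mul_left hcard h0
  have hinj : Function.Injective (fun j : Fin (s - 1) =>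
      (QuotientGroup.mk (⟨g j, hgN j⟩ : N) : N ⧸ C.subgroupOf N)) := by
    intro i j hij
    have h1 := QuotientGroup.eq.1 hij
    rw [mem_subgroupOf] at h1
    change (g i)⁻¹ * g j ∈ centralizer ({z} : Set D) at h1
    rw [mem_centralizer_singleton_iff] at h1
    have h2 : z ^ ((i : ℕ) + 1) = z ^ ((j : ℕ) + 1) := by
      rw [← hg i, ← hg j]
      calc g i * z * (g i)⁻¹ = g i * (z * ((g i)⁻¹ * g j)) * (g j)⁻¹ := by group
        _ = g i * ((g i)⁻¹ * g j * z) * (g j)⁻¹ := by rw [h1]
        _ = g j * z * (g j)⁻¹ := by group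
    have h3 := pow_injOn_Iio_orderOf (by rw [Set.mem_Iio, hz]; have := i.2; omega)
      (by rw [Set.mem_Iio, hz]; have := j.2; omega) h2
    exact Fin.ext (by omega)
  have h1 := Nat.card_le_card_of_injective _ hinj
  rw [Nat.card_eq_fintype_card, Fintype.card_fin] at h1
  have h2 : Nat.card (N ⧸ C.subgroupOf N) = (C.subgroupOf N).index := rfl
  omega

theorem not_large (hσ : Function.Injective σ) (hG : G2 D) (hdvd : p ^ n - 1 ∣ Nat.card D) :
    ¬ Large p n := by
  rintro ⟨s, hs, hsn, hsd, h | h⟩
  · have := le_of_ppd σ hσ hG hs hsn (fun d h1 h2 => hsd d h1 h2) (hsn.trans hdvd)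
    omega
  · exact sq_not_dvd σ hσ hG hs hsn (fun d h1 h2 => hsd d h1 h2) (h.trans hdvd)

end grp

section lin

variable {p : ℕ} [Fact p.Prime] {V : Type*} [AddCommGroup V] [Module (ZMod p) V]

/-- The commutative case. -/
theorem card_le_of_comm [Finite V] [Nontrivial V] (H : Subgroup (V ≃ₗ[ZMod p] V))
    (htr : ∀ v w : V, v ≠ 0 → w ≠ 0 → ∃ h ∈ H, h v = w) (hG : G2 H)
    (hc : ∀ a b : H, a * b = b * a) : Nat.card V ≤ 3 := by
  have hfin : Finite (V ≃ₗ[ZMod p] V) := finite_gl
  have hcyc : IsCyclic (⊤ : Subgroup H) := by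
    have hcomm : IsMulCommutative (⊤ : Subgroup H) :=
      ⟨⟨fun a b => Subtype.ext (hc a b)⟩⟩
    have hinj := groupAlg_injective_of_comm H htr ⊤ inferInstance hcomm
    exact (isCyclic_and_card_dvd (groupAlg (⊤ : Subgroup H)) hinj
      (H.subtype.comp (⊤ : Subgroup H).subtype)
      (H.subtype_injective.comp (⊤ : Subgroup H).subtype_injective)
      (fun g => coe_mem_groupAlg ⊤ g.2)).1
  have hone : ∀ x y : H, x ≠ 1 → y ≠ 1 → x = y := by
    intro x y hx hy
    have h1 := hG x y hx hy (isCyclic_of_le le_top hcyc) (isCyclic_of_le le_top hcyc)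
    obtain ⟨c, hc'⟩ := isConj_iff.1 h1
    rw [← hc', hc c x, mul_inv_cancel_right]
  have hH : Nat.card H ≤ 2 := by
    by_contra hcon
    push Not at hcon
    have : 2 < Nat.card H := hcon
    obtain ⟨x, hx⟩ : ∃ x : H, x ≠ 1 := by
      have : Nontrivial H := Finite.one_lt_card_iff_nontrivial.1 (by omega)
      exact exists_ne 1
    have hle : Nat.card H ≤ ({1, x} : Set H).ncard := by
      rw [← Set.ncard_univ]
      apply Set.ncard_le_ncard _ (Set.toFinite _)
      intro y _
      by_cases hy : y = 1
      · exact Or.inl hy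
      · exact Or.inr (hone y x hy hx)
    have := Set.ncard_insert_le (1 : H) {x}
    rw [Set.ncard_singleton] at this
    omega
  have h1 := Hering.dvd_card H htr
  have h2 : 0 < Nat.card H := Nat.card_pos
  have h3 := Nat.le_of_dvd h2 h1
  omega

/-- The order of a transitive group. -/
theorem card_eq_mul [Finite V] [Nontrivial V] (H : Subgroup (V ≃ₗ[ZMod p] V))
    (htr : ∀ v w : V, v ≠ 0 → w ≠ 0 → ∃ h ∈ H, h v = w) {v : V} (hv : v ≠ 0) :
    Nat.card H = (Nat.card V - 1) * Nat.card (MulAction.stabilizer H v) := by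
  have : Finite (V ≃ₗ[ZMod p] V) := finite_gl
  have h1 := (MulAction.stabilizer H v).card_mul_index
  rw [MulAction.index_stabilizer] at h1
  have h2 : MulAction.orbit H v = {x : V | x ≠ 0} := by
    ext x
    constructor
    · rintro ⟨d, rfl⟩
      intro h
      apply hv
      have h3 : (d : V ≃ₗ[ZMod p] V) v = 0 := h
      exact (LinearEquiv.map_eq_zero_iff _).1 h3
    · intro hx
      obtain ⟨d, hd, hdx⟩ := htr v x hv hx
      exact ⟨⟨d, hd⟩, hdx⟩
  have h3 : {x : V | x ≠ 0} = ({0} : Set V)ᶜ := by
    ext x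
    simp
  rw [h2, h3, Set.ncard_compl, Set.ncard_singleton] at h1
  rw [← h1, mul_comm]

theorem dvd_card_of_orbits {S W : Type*} [Group S] [MulAction S W] [Finite W] {m : ℕ}
    (h : ∀ w : W, m ∣ Nat.card (MulAction.orbit S w)) : m ∣ Nat.card W := by
  classical
  have := Fintype.ofFinite W
  have : Fintype (MulAction.orbitRel.Quotient S W) := Fintype.ofFinite _
  rw [Nat.card_congr (MulAction.selfEquivSigmaOrbits S W), Nat.card_sigma]
  exact Finset.dvd_sum fun ω _ => h _

/-- The map `-1` lies in `H`. -/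
theorem exists_neg_one [Finite V] [Nontrivial V] (H : Subgroup (V ≃ₗ[ZMod p] V))
    (htr : ∀ v w : V, v ≠ 0 → w ≠ 0 → ∃ h ∈ H, h v = w) {k : ℕ} (hk : 1 ≤ k)
    (hkn : 2 ^ k ∣ Nat.card V - 1)
    (hkd : ∀ d, 0 < d → d < finrank (ZMod p) V → ¬ 2 ^ k ∣ p ^ d - 1) :
    ∃ z : H, ∀ v, (z : V ≃ₗ[ZMod p] V) v = -v := by
  classical
  have hfin : Finite (V ≃ₗ[ZMod p] V) := finite_gl
  have hmf : Module.Finite (ZMod p) V := Module.Finite.of_finite
  have hdvd := Hering.dvd_card H htr
  have h2H : 2 ∣ Nat.card H := ((dvd_pow_self 2 (by omega)).trans hkn).trans hdvd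
  have : Fact (Nat.Prime 2) := ⟨Nat.prime_two⟩
  obtain ⟨S⟩ : Nonempty (Sylow 2 H) := inferInstance
  have hSne : (S : Subgroup H) ≠ ⊥ := by
    intro h
    have h1 := S.dvd_card_of_dvd_card h2H
    rw [h, card_bot] at h1
    omega
  obtain ⟨z, hzS, hz, hzc⟩ := Grp.exists_central_orderOf S hSne
  have hz2 : z * z = 1 := by
    have := pow_orderOf_eq_one z
    rwa [hz, pow_two] at this
  have hz1 : z ≠ 1 := by
    rintro rfl
    rw [orderOf_one] at hz
    omega
  -- the fixed vectors of `z`
  let W : Submodule (ZMod p) V :=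
    { carrier := {v | (z : V ≃ₗ[ZMod p] V) v = v}
      add_mem' := by
        intro a b ha hb
        simp only [Set.mem_setOf_eq] at ha hb ⊢
        rw [map_add, ha, hb]
      zero_mem' := by simp
      smul_mem' := by
        intro c a ha
        simp only [Set.mem_setOf_eq] at ha ⊢
        rw [map_smul, ha] }
  have hmemW : ∀ v, v ∈ W ↔ (z : V ≃ₗ[ZMod p] V) v = v := fun v => Iff.rfl
  have hWcard : Nat.card W = p ^ finrank (ZMod p) W := by
    rw [Module.natCard_eq_pow_finrank (K := ZMod p), Nat.card_zmod]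
  have hdle : finrank (ZMod p) W ≤ finrank (ZMod p) V := Submodule.finrank_le W
  rcases Nat.eq_zero_or_pos (finrank (ZMod p) W) with h0 | h0
  · have hbot : W = ⊥ := Submodule.finrank_eq_zero.1 h0
    refine ⟨z, fun v => ?_⟩
    have h1 : v + (z : V ≃ₗ[ZMod p] V) v ∈ W := by
      rw [hmemW, map_add]
      have h2 : (z : V ≃ₗ[ZMod p] V) ((z : V ≃ₗ[ZMod p] V) v) = v := by
        have h3 : ((z * z : H) : V ≃ₗ[ZMod p] V) v = v := by
          rw [hz2]
          rfl
        exact h3
      rw [h2, add_comm]
    rw [hbot, Submodule.mem_bot] at h1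
    exact eq_neg_of_add_eq_zero_right h1
  · exfalso
    rcases Nat.lt_or_ge (finrank (ZMod p) W) (finrank (ZMod p) V) with hlt | hge
    · apply hkd _ h0 hlt
      rw [← hWcard]
      -- `S` acts on the nonzero vectors of `W`
      let A := {w : W // w ≠ 0}
      have hstab : ∀ (s : S) (w : W), (((s : H) : V ≃ₗ[ZMod p] V) w) ∈ W := by
        intro s w
        rw [hmemW]
        have h1 : z * (s : H) = (s : H) * z := hzc _ s.2
        have h2 : ((z * (s : H) : H) : V ≃ₗ[ZMod p] V) (w : V) =
            (((s : H) * z : H) : V ≃ₗ[ZMod p] V) (w : V) := by rw [h1]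
        have h3 : (z : V ≃ₗ[ZMod p] V) (((s : H) : V ≃ₗ[ZMod p] V) w) =
            ((s : H) : V ≃ₗ[ZMod p] V) ((z : V ≃ₗ[ZMod p] V) w) := h2
        rw [h3, (hmemW w).1 w.2]
      let act : MulAction S A :=
        { smul := fun s w => ⟨⟨((s : H) : V ≃ₗ[ZMod p] V) (w : W), hstab s w⟩, by
            intro h
            apply w.2
            apply Subtype.ext
            have h1 : ((s : H) : V ≃ₗ[ZMod p] V) ((w : W) : V) = 0 := congrArg Subtype.val h
            exact (LinearEquiv.map_eq_zero_iff _).1 h1⟩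
          one_smul := fun w => rfl
          mul_smul := fun s t w => rfl }
      have hAcard : Nat.card A = Nat.card W - 1 := by
        have h1 : Nat.card A = ({0}ᶜ : Set W).ncard := by
          rw [← Nat.card_coe_set_eq]
          rfl
        rw [h1, Set.ncard_compl, Set.ncard_singleton]
      rw [← hAcard]
      apply dvd_card_of_orbits (S := S)
      intro w
      have hw0 : ((w : W) : V) ≠ 0 := fun h => w.2 (Subtype.ext h)
      have h1 : Nat.card (MulAction.orbit S w) = (MulAction.stabilizer S w).index := by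
        rw [MulAction.index_stabilizer, ← Nat.card_coe_set_eq]
      rw [h1]
      have h2 := (MulAction.stabilizer S w).card_mul_index
      -- the stabilizer in `S` embeds into the stabilizer in `H`
      have h3 : Nat.card (MulAction.stabilizer S w) ∣
          Nat.card (MulAction.stabilizer H ((w : W) : V)) := by
        let j : MulAction.stabilizer S w →* MulAction.stabilizer H ((w : W) : V) :=
          { toFun := fun s => ⟨((s : S) : H), by
              have h4 : (s : S) • w = w := s.2
              have h5 : ((((s : S) : H)) : V ≃ₗ[ZMod p] V) ((w : W) : V) = ((w : W) : V) :=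
                congrArg (fun x : A => ((x : W) : V)) h4
              exact h5⟩
            map_one' := rfl
            map_mul' := fun _ _ => rfl }
        refine Subgroup.card_dvd_of_injective j fun a b hab => ?_
        apply Subtype.ext
        apply Subtype.ext
        exact congrArg (fun x : MulAction.stabilizer H ((w : W) : V) => (x : H)) hab
      obtain ⟨b, hb⟩ := (IsPGroup.iff_card (p := 2)).1
        (S.isPGroup'.to_subgroup (MulAction.stabilizer S w))
      obtain ⟨a, ha⟩ := (IsPGroup.iff_card (p := 2)).1 S.isPGroup'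
      have h4 : 2 ^ (b + k) ∣ Nat.card H := by
        rw [card_eq_mul H htr hw0, pow_add, mul_comm]
        exact mul_dvd_mul hkn (hb ▸ h3)
      have h5 : 2 ^ (b + k) ∣ Nat.card S := Sylow.pow_dvd_card_of_pow_dvd_card S h4
      rw [← h2, hb, pow_add] at h5
      exact Nat.dvd_of_mul_dvd_mul_left (by positivity) h5
    · have htop : W = ⊤ := Submodule.eq_top_of_finrank_eq (le_antisymm hdle hge)
      apply hz1
      apply Subtype.ext
      ext v
      have : v ∈ W := htop ▸ Submodule.mem_top
      exact (hmemW v).1 this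

theorem neg_comm (H : Subgroup (V ≃ₗ[ZMod p] V)) {z : H}
    (hz : ∀ v, (z : V ≃ₗ[ZMod p] V) v = -v) (g : H) : g * z = z * g := by
  apply Subtype.ext
  ext v
  change (g : V ≃ₗ[ZMod p] V) ((z : V ≃ₗ[ZMod p] V) v) =
    (z : V ≃ₗ[ZMod p] V) ((g : V ≃ₗ[ZMod p] V) v)
  rw [hz, hz, map_neg]

theorem neg_mul_self (H : Subgroup (V ≃ₗ[ZMod p] V)) {z : H}
    (hz : ∀ v, (z : V ≃ₗ[ZMod p] V) v = -v) : z * z = 1 := by
  apply Subtype.ext
  ext v
  change (z : V ≃ₗ[ZMod p] V) ((z : V ≃ₗ[ZMod p] V) v) = v
  rw [hz, hz, neg_neg]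

theorem neg_ne_one [Nontrivial V] (hp : p ≠ 2) (H : Subgroup (V ≃ₗ[ZMod p] V)) {z : H}
    (hz : ∀ v, (z : V ≃ₗ[ZMod p] V) v = -v) : z ≠ 1 := by
  rintro rfl
  obtain ⟨v, hv⟩ := exists_ne (0 : V)
  apply hv
  have h1 : v = -v := hz v
  have h2 : (2 : ZMod p) • v = 0 := by
    rw [two_smul]
    nth_rewrite 2 [h1]
    exact add_neg_cancel v
  have h3 : (2 : ZMod p) ≠ 0 := by
    intro h
    have h4 : ((2 : ℕ) : ZMod p) = 0 := by exact_mod_cast h
    rw [ZMod.natCast_eq_zero_iff] at h4
    have := (Nat.prime_dvd_prime_iff_eq (Fact.out : p.Prime) Nat.prime_two).1 h4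
    exact hp this
  exact (smul_eq_zero.1 h2).resolve_left h3

/-- `|V| = 81`. -/
theorem false_of_eightyone [Finite V] [Nontrivial V] (hp : p = 3)
    (hn : finrank (ZMod p) V = 4) (H : Subgroup (V ≃ₗ[ZMod p] V))
    (htr : ∀ v w : V, v ≠ 0 → w ≠ 0 → ∃ h ∈ H, h v = w) (hG : G2 H) : False := by
  subst hp
  have hfin : Finite (V ≃ₗ[ZMod 3] V) := finite_gl
  have hV := Hering.card_eq (p := 3) (V := V)
  obtain ⟨σ, hσ⟩ := Hering.exists_toGL H
  rw [hn] at hV
  obtain ⟨z, hz⟩ := exists_neg_one H htr (k := 4) (by norm_num) (by rw [hV]; norm_num) (by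
    intro d h1 h2
    rw [hn] at h2
    interval_cases d <;> norm_num)
  have hzz := neg_mul_self H hz
  have hz1 := neg_ne_one (by norm_num) H hz
  have h5 : 5 ∣ Nat.card H := by
    refine dvd_trans ?_ (Hering.dvd_card H htr)
    rw [hV]
    norm_num
  have : Fact (Nat.Prime 5) := ⟨by norm_num⟩
  obtain ⟨x, hx⟩ := exists_prime_orderOf_dvd_card' 5 h5
  have hxc : IsCyclic (centralizer ({x} : Set H)) := by
    refine HeringMat.isCyclic_centralizer σ hσ (s := 5) (by norm_num) ?_ ?_ hx
    · rw [hn]; norm_num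
    · intro d h1 h2
      rw [hn] at h2
      interval_cases d <;> norm_num
  have hxp : x ^ 5 = 1 := by rw [← hx]; exact pow_orderOf_eq_one x
  have hx1 : x ≠ 1 := by
    rintro rfl
    rw [orderOf_one] at hx
    omega
  have hcomm := neg_comm H hz
  have hw5 : (x * z) ^ 5 = z := by
    have h1 : Commute x z := hcomm x
    rw [h1.mul_pow, hxp, one_mul]
    calc z ^ 5 = (z * z) * (z * z) * z := by
          simp only [pow_succ, pow_zero, one_mul, mul_assoc]
      _ = z := by rw [hzz, one_mul, one_mul]
  have hwc : IsCyclic (centralizer ({x * z} : Set H)) := by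
    refine isCyclic_of_le ?_ hxc
    intro g hg
    rw [mem_centralizer_singleton_iff] at hg ⊢
    have h1 : g * x * z = x * g * z := by
      rw [mul_assoc, hg, mul_assoc, mul_assoc, hcomm g]
    exact mul_right_cancel h1
  have hconj := hG x (x * z) hx1 (by
    intro h
    rw [h, one_pow] at hw5
    exact hz1 hw5.symm) hxc hwc
  have h1 := orderOf_eq_of_isConj hconj
  rw [hx] at h1
  have h2 : (x * z) ^ 5 = 1 := by rw [h1]; exact pow_orderOf_eq_one _
  rw [hw5] at h2
  exact hz1 h2

/-- `|V| = 9`. -/
theorem false_of_nine [Finite V] [Nontrivial V] (hp : p = 3)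
    (hn : finrank (ZMod p) V = 2) (H : Subgroup (V ≃ₗ[ZMod p] V))
    (htr : ∀ v w : V, v ≠ 0 → w ≠ 0 → ∃ h ∈ H, h v = w)
    {f : ℕ} (hstab : ∀ v : V, v ≠ 0 → Nat.card (MulAction.stabilizer H v) = f ^ 2)
    (hG : G2 H) : False := by
  subst hp
  have hfin : Finite (V ≃ₗ[ZMod 3] V) := finite_gl
  have hV := Hering.card_eq (p := 3) (V := V)
  obtain ⟨σ, hσ⟩ := Hering.exists_toGL H
  rw [hn] at hV
  obtain ⟨z, hz⟩ := exists_neg_one H htr (k := 3) (by norm_num) (by rw [hV]; norm_num) (by
    intro d h1 h2
    rw [hn] at h2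
    interval_cases d
    norm_num)
  have hzz := neg_mul_self H hz
  have hz1 := neg_ne_one (by norm_num) H hz
  have hcomm := neg_comm H hz
  obtain ⟨v₀, hv₀⟩ := exists_ne (0 : V)
  have hcard := card_eq_mul H htr hv₀
  rw [hstab v₀ hv₀, hV] at hcard
  have h48 : Nat.card H ∣ 48 := by
    have h1 : Nat.card H ∣ Nat.card (GL (Fin (finrank (ZMod 3) V)) (ZMod 3)) :=
      Subgroup.card_dvd_of_injective σ hσ
    rw [Matrix.card_GL_field, hn] at h1
    have h2 : ∏ i : Fin 2, (Fintype.card (ZMod 3) ^ 2 - Fintype.card (ZMod 3) ^ (i : ℕ)) = 48 := by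
      rw [ZMod.card]
      decide
    rw [h2] at h1
    exact h1
  have hf : f ^ 2 = 1 := by
    rw [hcard] at h48
    have h1 : f ^ 2 ∣ 6 := by
      have h2 : (8 : ℕ) * f ^ 2 ∣ 8 * 6 := by simpa using h48
      exact Nat.dvd_of_mul_dvd_mul_left (by norm_num) h2
    have h2 : f ≤ 2 := by
      have := Nat.le_of_dvd (by norm_num) h1
      nlinarith
    interval_cases f
    · norm_num at h1
    · rfl
    · norm_num at h1
  rw [hf] at hcard
  norm_num at hcard
  -- the only involution is `z`
  have hfix : ∀ (g : H) (v : V), v ≠ 0 → (g : V ≃ₗ[ZMod 3] V) v = v → g = 1 := by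
    intro g v hv hgv
    have h1 := hstab v hv
    rw [hf, Subgroup.card_eq_one] at h1
    have h2 : g ∈ MulAction.stabilizer H v := hgv
    rw [h1, mem_bot] at h2
    exact h2
  have hinv : ∀ t : H, t ≠ 1 → t * t = 1 → t = z := by
    intro t ht htt
    apply Subtype.ext
    ext v
    rw [hz]
    have h1 : (t : V ≃ₗ[ZMod 3] V) (v + (t : V ≃ₗ[ZMod 3] V) v) = v + (t : V ≃ₗ[ZMod 3] V) v := by
      have h2 : (t : V ≃ₗ[ZMod 3] V) ((t : V ≃ₗ[ZMod 3] V) v) = v := by
        have h3 : ((t * t : H) : V ≃ₗ[ZMod 3] V) v = v := by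
          rw [htt]
          rfl
        exact h3
      rw [map_add, h2, add_comm]
    by_contra h2
    apply ht
    apply hfix t _ _ h1
    intro h3
    exact h2 (eq_neg_of_add_eq_zero_right h3)
  have hord : ∀ x : H, x ≠ 1 → x ≠ z → 4 ∣ orderOf x := by
    intro x hx hxz
    have h1 : orderOf x ∣ 2 ^ 3 := by
      have := orderOf_dvd_natCard x
      rw [hcard] at this
      exact this
    obtain ⟨k, hk, hk'⟩ := (Nat.dvd_prime_pow Nat.prime_two).1 h1
    have hk2 : 2 ≤ k := by
      by_contra hk2
      have : k = 0 ∨ k = 1 := by omega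
      rcases this with rfl | rfl
      · rw [pow_zero, orderOf_eq_one_iff] at hk'
        exact hx hk'
      · apply hxz
        apply hinv x hx
        have := pow_orderOf_eq_one x
        rwa [hk', pow_one, pow_two] at this
    rw [hk']
    exact pow_dvd_pow 2 hk2
  by_cases hc : ∀ a b : H, a * b = b * a
  · have := card_le_of_comm H htr hG hc
    rw [hV] at this
    omega
  · have hcent : ∀ x : H, x ≠ 1 → x ≠ z → Nat.card (centralizer ({x} : Set H)) = 4 ∧
        IsCyclic (centralizer ({x} : Set H)) := by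
      intro x hx hxz
      have h4 := hord x hx hxz
      have hxc : x ∈ centralizer ({x} : Set H) := by
        rw [mem_centralizer_singleton_iff]
      have h1 : orderOf x ∣ Nat.card (centralizer ({x} : Set H)) := by
        have := orderOf_dvd_natCard (⟨x, hxc⟩ : centralizer ({x} : Set H))
        rwa [Subgroup.orderOf_mk] at this
      have h2 : Nat.card (centralizer ({x} : Set H)) ∣ 8 := by
        rw [← hcard]
        exact Subgroup.card_subgroup_dvd_card _
      have h3 : Nat.card (centralizer ({x} : Set H)) ≠ 8 := by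
        intro h3
        apply hc
        have htop : centralizer ({x} : Set H) = ⊤ := by
          apply Subgroup.eq_top_of_card_eq
          rw [h3, hcard]
        have hxZ : x ∈ center H := by
          rw [mem_center_iff]
          intro g
          have : g ∈ centralizer ({x} : Set H) := htop ▸ mem_top g
          exact mem_centralizer_singleton_iff.1 this
        have hle : zpowers x ≤ center H := by rwa [zpowers_le]
        have hnorm : (zpowers x).Normal := by
          refine ⟨fun n hn g => ?_⟩
          have h5 := mem_center_iff.1 (hle hn) g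
          rw [h5, mul_inv_cancel_right]
          exact hn
        have hidx : (zpowers x).index ≤ 2 := by
          have h5 := (zpowers x).card_mul_index
          rw [Nat.card_zpowers, hcard] at h5
          obtain ⟨c, hc'⟩ := h4
          rw [hc'] at h5
          have hc0 : 0 < c := by
            apply Nat.pos_of_ne_zero
            rintro rfl
            omega
          by_contra h6
          push Not at h6
          nlinarith [Nat.mul_le_mul hc0 h6]
        have hcyc : IsCyclic (H ⧸ zpowers x) := by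
          have h5 : Nat.card (H ⧸ zpowers x) ≤ 2 := hidx
          have h6 : 0 < Nat.card (H ⧸ zpowers x) := Nat.card_pos
          have h7 : Nat.card (H ⧸ zpowers x) = 1 ∨ Nat.card (H ⧸ zpowers x) = 2 := by omega
          rcases h7 with h7 | h7
          · have := (Nat.card_eq_one_iff_unique.1 h7).1
            exact isCyclic_of_subsingleton
          · have : Fact (Nat.Prime 2) := ⟨Nat.prime_two⟩
            exact isCyclic_of_prime_card h7
        intro a b
        exact ((QuotientGroup.mk' (zpowers x)).isMulCommutative_of_isCyclic_of_ker_le_center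
          (by rw [QuotientGroup.ker_mk']; exact hle)).is_comm.comm a b
      have h5 : Nat.card (centralizer ({x} : Set H)) = 4 := by
        have h6 : 4 ∣ Nat.card (centralizer ({x} : Set H)) := h4.trans h1
        have h7 := Nat.le_of_dvd (by norm_num) h2
        obtain ⟨c, hc'⟩ := h6
        rw [hc'] at h2 h3 h7 ⊢
        have : c ≤ 2 := by omega
        interval_cases c
        · norm_num at h2
        · rfl
        · exact absurd rfl h3
      refine ⟨h5, ?_⟩
      have h6 : orderOf (⟨x, hxc⟩ : centralizer ({x} : Set H)) =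
          Nat.card (centralizer ({x} : Set H)) := by
        rw [Subgroup.orderOf_mk]
        rw [h5] at h1 ⊢
        exact Nat.dvd_antisymm h1 h4
      exact isCyclic_of_orderOf_eq_card _ h6
    obtain ⟨x, hx, hxz⟩ : ∃ x : H, x ≠ 1 ∧ x ≠ z := by
      by_contra hcon
      push Not at hcon
      have hle : Nat.card H ≤ ({1, z} : Set H).ncard := by
        rw [← Set.ncard_univ]
        apply Set.ncard_le_ncard _ (Set.toFinite _)
        intro y _
        by_cases hy : y = 1
        · exact Or.inl hy
        · exact Or.inr (hcon y hy)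
      have := Set.ncard_insert_le (1 : H) {z}
      rw [Set.ncard_singleton] at this
      omega
    obtain ⟨hx4, hxc⟩ := hcent x hx hxz
    -- the class of `x`
    let φ : H ⧸ centralizer ({x} : Set H) → H := Quotient.lift (fun g : H => g * x * g⁻¹) (by
      intro a b hab
      have h1 : a⁻¹ * b ∈ centralizer ({x} : Set H) := QuotientGroup.leftRel_apply.1 hab
      rw [mem_centralizer_singleton_iff] at h1
      calc a * x * a⁻¹ = a * (x * (a⁻¹ * b)) * b⁻¹ := by group
        _ = a * (a⁻¹ * b * x) * b⁻¹ := by rw [h1]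
        _ = b * x * b⁻¹ := by group)
    have hidx : Nat.card (H ⧸ centralizer ({x} : Set H)) = 2 := by
      have h5 := (centralizer ({x} : Set H)).card_mul_index
      rw [hx4, hcard] at h5
      have h6 : Nat.card (H ⧸ centralizer ({x} : Set H)) = (centralizer ({x} : Set H)).index := rfl
      omega
    have hrange : (Set.univ : Set H) ⊆ Set.range φ ∪ {1, z} := by
      intro y _
      by_cases hy : y = 1
      · exact Or.inr (Or.inl hy)
      by_cases hyz : y = z
      · exact Or.inr (Or.inr hyz)
      · left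
        obtain ⟨c, hc'⟩ := isConj_iff.1 (hG x y hx hy hxc (hcent y hy hyz).2)
        exact ⟨QuotientGroup.mk c, hc'⟩
    have h1 := Set.ncard_le_ncard hrange (Set.toFinite _)
    rw [Set.ncard_univ, hcard] at h1
    have h2 := Set.ncard_union_le (Set.range φ) {1, z}
    have h3 : (Set.range φ).ncard ≤ 2 := by
      rw [← hidx, ← Set.image_univ, ← Set.ncard_univ]
      exact Set.ncard_image_le (Set.toFinite _)
    have h4 := Set.ncard_insert_le (1 : H) {z}
    rw [Set.ncard_singleton] at h4
    omega

/-- **The main theorem on transitive linear groups.** -/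
theorem card_le_three [Finite V] [Nontrivial V] (H : Subgroup (V ≃ₗ[ZMod p] V))
    (htr : ∀ v w : V, v ≠ 0 → w ≠ 0 → ∃ h ∈ H, h v = w)
    {f : ℕ} (hstab : ∀ v : V, v ≠ 0 → Nat.card (MulAction.stabilizer H v) = f ^ 2)
    {a b : ℕ} (hab : Nat.card H = a ^ 2 + b ^ 2) (hG : G2 H) : Nat.card V ≤ 3 := by
  have hfin : Finite (V ≃ₗ[ZMod p] V) := finite_gl
  have hmf : Module.Finite (ZMod p) V := Module.Finite.of_finite
  have hp : p.Prime := Fact.out
  have hV := Hering.card_eq (p := p) (V := V)
  obtain ⟨σ, hσ⟩ := Hering.exists_toGL H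
  have hn0 : 0 < finrank (ZMod p) V := Module.finrank_pos
  obtain ⟨v₀, hv₀⟩ := exists_ne (0 : V)
  have hcard := card_eq_mul H htr hv₀
  rw [hstab v₀ hv₀, hV] at hcard
  rcases Nat.lt_or_ge (finrank (ZMod p) V) 2 with h1 | h2
  · have hn : finrank (ZMod p) V = 1 := by omega
    apply card_le_of_comm H htr hG
    intro x y
    apply hσ
    rw [map_mul, map_mul]
    apply Units.ext
    rw [Units.val_mul, Units.val_mul]
    ext i j
    rw [Matrix.mul_apply, Matrix.mul_apply]
    refine Finset.sum_congr rfl fun k _ => ?_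
    have hi := i.2
    have hj := j.2
    have hk := k.2
    have h1 : k = i := Fin.ext (by omega)
    have h2 : j = i := Fin.ext (by omega)
    rw [h1, h2, mul_comm]
  · exfalso
    have hpow : p ^ finrank (ZMod p) V - 1 ≠ 0 := by
      have h3 : 2 ^ 1 ≤ p ^ finrank (ZMod p) V := by
        calc 2 ^ 1 ≤ 2 ^ finrank (ZMod p) V := Nat.pow_le_pow_right (by norm_num) hn0
          _ ≤ p ^ finrank (ZMod p) V := Nat.pow_le_pow_left hp.two_le _
      omega
    have hf0 : f ≠ 0 := by
      rintro rfl
      have : 0 < Nat.card H := Nat.card_pos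
      rw [hcard] at this
      simp at this
    have hSS := ss_of hpow hf0 (hcard.symm.trans hab)
    have hnL := not_large σ hσ hG ⟨f ^ 2, hcard⟩
    obtain ⟨hp3, hn | hn⟩ := cases_of_ss hp h2 hSS hnL
    · exact false_of_nine hp3 hn H htr hstab hG
    · exact false_of_eightyone hp3 hn H htr hG

end lin

end Cfsg.Agent.H648.LinTrans
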