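import Mathlib
import Cfsg.Agent.H648.Dict
import Cfsg.Agent.H646.NormalSupport
import Cfsg.Agent.H649.Transport
import Cfsg.Agent.S0919

/-!
# Induction to the whole group of blocks of subgroups between `C_X(V)` and `X`, `V` normal
-/

set_option autoImplicit false
set_option linter.unusedSectionVars false

open Cfsg

namespace Cfsg.Agent.H648.NormInd

open Cfsg.Agent.H644 Cfsg.Agent.Blocks.Local Cfsg.Agent.Blocks.MinMax
open Cfsg.Agent.H648.Dict
open Cfsg.Agent.Blocks.Basic (isPBlock_nonempty isPBlock_sameBlock isPGroup_of_isDefectGroup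
  isPBlock_eq_of_mem)

universe u

variable {X : Type u} [Group X] [Finite X] {p : ℕ} [Fact p.Prime] {M : Ideal AlgInt}
  (V : Subgroup X) [V.Normal]

/-- A block of `H ≥ C_X(V)` with the central character of `B` on the elements supported on
`C_X(V)` induces `B`. -/
theorem isInducedBlock_of_lam (hM : IsPModular p M) [M.IsPrime] (hV : IsPGroup p V)
    {H : Subgroup X} (hVH : V ≤ H) (hCH : Subgroup.centralizer (V : Set X) ≤ H)
    {β : Set (IrrCharacter H)} (hβ : IsPBlock M β) {B : Set (IrrCharacter X)} (hB : IsPBlock M B)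
    (h : ∀ ξ ∈ β, ∀ χ ∈ B, ∀ x : MonoidAlgebra (ResField M) X, IsCls x →
      (∀ g, g ∉ Subgroup.centralizer (V : Set X) → x.coeff g = 0) →
      lam M (χ : X → ℂ) x = lam M (ξ : H → ℂ) (res H x)) : IsInducedBlock M H β B := by
  have := Fintype.ofFinite X
  obtain ⟨B₁, hB₁⟩ := Cfsg.Agent.S0919.result p M hM V H hV hVH hCH
    (by rw [Subgroup.normalizer_eq_top]; exact le_top) β hβ
  obtain ⟨ξ, hξ⟩ := isPBlock_nonempty hβ
  obtain ⟨χ, hχ⟩ := isPBlock_nonempty hB
  obtain ⟨χ', hχ'⟩ := isPBlock_nonempty hB₁.2.1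
  have h1 : lam M (χ' : X → ℂ) (idem M B) = 1 := by
    rw [← (isInducedBlock_iff.1 hB₁).2.2 ξ hξ χ' hχ' _ (isCls_idem B),
      ← h ξ hξ χ hχ (idem M B) (isCls_idem B) ?_, lam_idem_of_mem hM (isUnion_of_isPBlock hB) hχ]
    intro g hg
    rw [coeff_idem, Cfsg.Agent.H646.NormalSupport.blockCoeff_eq_zero hM hB V hV hg,
      redC_zero]
  have h2 : χ' ∈ B := (lam_idem_eq_one_iff hM (isUnion_of_isPBlock hB)).1 h1
  have h3 : B₁ = B := isPBlock_eq_of_mem hB₁.2.1 hB hχ' h2
  rw [← h3]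
  exact hB₁

/-- The block of `C_X(V)` covered by `B` induces `B`. -/
theorem isInducedBlock_of_covers (hM : IsPModular p M) (hV : IsPGroup p V)
    (C : Subgroup X) [C.Normal] [Fintype C] (hVC : V ≤ C)
    (hC : Subgroup.centralizer (V : Set X) = C)
    {b : Set (IrrCharacter C)} (hb : IsPBlock M b)
    {B : Set (IrrCharacter X)} (hB : IsPBlock M B) (hcov : Covers C B b) :
    IsInducedBlock M C b B := by
  have hp : M.IsPrime := isPrime_of_isPModular hM
  have := Fintype.ofFinite X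
  refine isInducedBlock_of_lam V hM hV hVC hC.le hb hB ?_
  intro ξ hξ χ hχ x hx hsupp
  exact (covers_iff_lam C hM hB hb).1 hcov χ hχ ξ hξ x hx fun g hg => hsupp g (by rwa [hC])

/-- A block of `Y ≥ C = C_X(V)` covering the copy of `b` induces `B`. -/
theorem isInducedBlock_of_covers_copy (hM : IsPModular p M) (hV : IsPGroup p V)
    (C : Subgroup X) [C.Normal] [Fintype C]
    (hC : Subgroup.centralizer (V : Set X) = C)
    {b : Set (IrrCharacter C)} (hb : IsPBlock M b)
    {B : Set (IrrCharacter X)} (hB : IsPBlock M B) (hcov : Covers C B b)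
    {Y : Subgroup X} (hVY : V ≤ Y) (hCY : C ≤ Y) [Fintype (C.subgroupOf Y)]
    {β : Set (IrrCharacter Y)} (hβ : IsPBlock M β)
    (hβcov : Covers (C.subgroupOf Y) β
      (Cfsg.Agent.H649.blkMap (Subgroup.subgroupOfEquivOfLe hCY).symm b)) :
    IsInducedBlock M Y β B := by
  have hp : M.IsPrime := isPrime_of_isPModular hM
  have := Fintype.ofFinite X
  refine isInducedBlock_of_lam V hM hV hVY (hC.le.trans hCY) hβ hB ?_
  intro ξ hξ χ hχ x hx hsupp
  obtain ⟨θ, hθ⟩ := isPBlock_nonempty hb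
  have h1 := (covers_iff_lam C hM hB hb).1 hcov χ hχ θ hθ x hx fun g hg => hsupp g (by rwa [hC])
  have h2 := (covers_iff_lam (C.subgroupOf Y) hM hβ (Cfsg.Agent.H649.isPBlock_blkMap hb)).1 hβcov
    ξ hξ (Cfsg.Agent.H649.irrMap (Subgroup.subgroupOfEquivOfLe hCY).symm θ)
    (Cfsg.Agent.H649.irrMap_mem_blkMap.2 hθ) (res Y x) (isCls_res (isInv_of_isCls hx Y)) (by
      intro g hg
      rw [coeff_res]
      exact hsupp g (fun h => hg (by rw [Subgroup.mem_subgroupOf, ← hC]; exact h)))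
  rw [h1, h2]
  refine (lam_irrMap (Subgroup.subgroupOfEquivOfLe hCY).symm θ
    (isCls_res (isInv_of_isCls hx C)) fun l => ?_).symm
  rw [coeff_res, coeff_res, coeff_res]
  rfl

end Cfsg.Agent.H648.NormInd
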