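import Mathlib
import Cfsg.Agent.H648.LinTrans

/-!
# The conjugation action on a normal elementary abelian subgroup as a linear group
-/

set_option autoImplicit false

namespace Cfsg.Agent.H648.NormLin

open Cfsg.Agent.H648.LinTrans

universe u

variable {X : Type u} [Group X] [Finite X] {p : ℕ} [Fact p.Prime]

theorem g2_of_equiv {A B : Type*} [Group A] [Group B] (e : A ≃* B) (hG : G2 A) : G2 B := by
  intro x y hx hy hcx hcy
  have hcyc : ∀ z : B, IsCyclic (Subgroup.centralizer ({z} : Set B)) →
      IsCyclic (Subgroup.centralizer ({e.symm z} : Set A)) := by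
    intro z hz
    have hmem : ∀ w ∈ Subgroup.centralizer ({e.symm z} : Set A),
        e w ∈ Subgroup.centralizer ({z} : Set B) := by
      intro w hw
      rw [Subgroup.mem_centralizer_singleton_iff] at hw ⊢
      have := congrArg e hw
      rwa [map_mul, map_mul, e.apply_symm_apply] at this
    refine isCyclic_of_injective
      (MonoidHom.mk' (fun w : Subgroup.centralizer ({e.symm z} : Set A) =>
        (⟨e w, hmem w w.2⟩ : Subgroup.centralizer ({z} : Set B))) (by
          intro a b
          apply Subtype.ext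
          exact map_mul e (a : A) b)) ?_
    intro a b h
    apply Subtype.ext
    apply e.injective
    exact congrArg Subtype.val h
  have h1 := hG (e.symm x) (e.symm y) (fun h => hx (by simpa using h))
    (fun h => hy (by simpa using h)) (hcyc x hcx) (hcyc y hcy)
  obtain ⟨c, hc⟩ := isConj_iff.1 h1
  refine isConj_iff.2 ⟨e c, ?_⟩
  have := congrArg e hc
  simpa using this

theorem card_le_three_lin {W : Type*} [AddCommGroup W] [Module (ZMod p) W] [Finite W]
    [Nontrivial W] (φ : X →* (W ≃ₗ[ZMod p] W))
    (htr : ∀ v w : W, v ≠ 0 → w ≠ 0 → ∃ x : X, φ x v = w) {f : ℕ}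
    (hstab : ∀ v : W, v ≠ 0 → ∀ S : Subgroup X, (∀ x, x ∈ S ↔ φ x v = v) →
      φ.ker.relIndex S = f ^ 2)
    {a b : ℕ} (hab : φ.ker.index = a ^ 2 + b ^ 2) (hG : G2 (X ⧸ φ.ker)) : Nat.card W ≤ 3 := by
  have hcardr : Nat.card φ.range = φ.ker.index :=
    (Nat.card_congr (QuotientGroup.quotientKerEquivRange φ).toEquiv).symm
  refine LinTrans.card_le_three (p := p) φ.range ?_ (f := f) ?_ (a := a) (b := b) ?_ ?_
  · intro v w hv hw
    obtain ⟨x, hx⟩ := htr v w hv hw
    exact ⟨φ x, ⟨x, rfl⟩, hx⟩
  · intro v hv
    have h1 : ∀ x, x ∈ (MulAction.stabilizer φ.range v).comap φ.rangeRestrict ↔ φ x v = v := by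
      intro x
      rw [Subgroup.mem_comap, MulAction.mem_stabilizer_iff]
      rfl
    have h2 := Subgroup.index_comap_of_surjective (MulAction.stabilizer φ.range v)
      φ.rangeRestrict_surjective
    have h3 := (MulAction.stabilizer φ.range v).card_mul_index
    have h4 := hstab v hv _ h1
    have h5 : φ.ker ≤ (MulAction.stabilizer φ.range v).comap φ.rangeRestrict := by
      intro x hx
      rw [h1, MonoidHom.mem_ker.1 hx]
      rfl
    have h6 := Subgroup.relIndex_mul_index h5
    rw [← h2, hcardr, ← h6, h4] at h3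
    exact Nat.eq_of_mul_eq_mul_right (Nat.pos_of_ne_zero Subgroup.index_ne_zero_of_finite) h3
  · rw [hcardr, hab]
  · exact g2_of_equiv (QuotientGroup.quotientKerEquivRange φ) hG

theorem card_le_three_aut {W : Type*} [CommGroup W] [Finite W] [Nontrivial W]
    (hexp : ∀ w : W, w ^ p = 1) (ψ : X →* MulAut W)
    (htr : ∀ v w : W, v ≠ 1 → w ≠ 1 → ∃ x : X, ψ x v = w) {f : ℕ}
    (hstab : ∀ v : W, v ≠ 1 → ∀ S : Subgroup X, (∀ x, x ∈ S ↔ ψ x v = v) →
      ψ.ker.relIndex S = f ^ 2)
    {a b : ℕ} (hab : ψ.ker.index = a ^ 2 + b ^ 2) (hG : G2 (X ⧸ ψ.ker)) : Nat.card W ≤ 3 := by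
  let _ : Module (ZMod p) (Additive W) := AddCommGroup.zmodModule (n := p) hexp
  let lin : MulAut W → (Additive W ≃ₗ[ZMod p] Additive W) := fun x =>
    { (MulEquiv.toAdditive x : Additive W ≃+ Additive W) with
      map_smul' := fun c v => ZMod.map_smul
        (MulEquiv.toAdditive x : Additive W ≃+ Additive W) c v }
  have hlin : ∀ (x : MulAut W) (v : Additive W), lin x v =
      Additive.ofMul (x (Additive.toMul v)) := fun _ _ => rfl
  let φ : X →* (Additive W ≃ₗ[ZMod p] Additive W) :=
    MonoidHom.mk' (fun x => lin (ψ x)) (by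
        intro x y
        refine LinearEquiv.ext fun v => ?_
        rw [LinearEquiv.mul_apply, hlin, hlin, hlin, map_mul]
        rfl)
  have hφ : ∀ (x : X) (v : Additive W), φ x v = Additive.ofMul (ψ x (Additive.toMul v)) :=
    fun _ _ => rfl
  have hker : φ.ker = ψ.ker := by
    ext x
    rw [MonoidHom.mem_ker, MonoidHom.mem_ker]
    constructor
    · intro h
      refine MulEquiv.ext fun v => ?_
      have h1 := congrArg (fun l => Additive.toMul (l (Additive.ofMul v))) h
      exact h1
    · intro h
      refine LinearEquiv.ext fun v => ?_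
      rw [hφ, h]
      rfl
  have : Nontrivial (Additive W) := inferInstanceAs (Nontrivial W)
  have hcard : Nat.card (Additive W) = Nat.card W := rfl
  rw [← hcard]
  refine card_le_three_lin (p := p) φ ?_ (f := f) ?_ (a := a) (b := b) ?_ ?_
  · intro v w hv hw
    obtain ⟨x, hx⟩ := htr (Additive.toMul v) (Additive.toMul w) hv hw
    exact ⟨x, by rw [hφ, hx]; rfl⟩
  · intro v hv S hS
    rw [hker]
    exact hstab (Additive.toMul v) hv S hS
  · rw [hker, hab]
  · exact g2_of_equiv (QuotientGroup.quotientMulEquivOfEq hker.symm) hG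

/-- `V` is a normal elementary abelian `p`-subgroup of `X`, with centralizer `C`, `X` is transitive
on the nonidentity elements of `V`, with stabilizers of order `f²` modulo `C`, the order of `X / C`
is a sum of two squares and any two nonidentity elements of `X / C` with cyclic centralizers are
conjugate. Then `|V| ≤ 3`. -/
theorem card_le_three (V C : Subgroup X) [V.Normal] [C.Normal]
    (hC : Subgroup.centralizer (V : Set X) = C) (hVC : V ≤ C)
    (hexp : ∀ v ∈ V, v ^ p = 1) (hV1 : V ≠ ⊥)
    (htr : ∀ v ∈ V, ∀ w ∈ V, v ≠ 1 → w ≠ 1 → IsConj v w) {f : ℕ}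
    (hstab : ∀ v ∈ V, v ≠ 1 → C.relIndex (Subgroup.centralizer ({v} : Set X)) = f ^ 2)
    {a b : ℕ} (hab : C.index = a ^ 2 + b ^ 2) (hG : G2 (X ⧸ C)) : Nat.card V ≤ 3 := by
  have hcomm : ∀ v w : V, v * w = w * v := by
    intro v w
    apply Subtype.ext
    have h1 : (v : X) ∈ Subgroup.centralizer (V : Set X) := by rw [hC]; exact hVC v.2
    exact ((Subgroup.mem_centralizer_iff.1 h1) w w.2).symm
  have hnt : Nontrivial V := (Subgroup.nontrivial_iff_ne_bot V).2 hV1
  have hker : (MulAut.conjNormal : X →* MulAut V).ker = C := by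
    ext x
    rw [MonoidHom.mem_ker, ← hC, Subgroup.mem_centralizer_iff]
    constructor
    · intro h v hv
      have h2 : (((MulAut.conjNormal x : MulAut V) ⟨v, hv⟩ : V) : X) = v := by rw [h]; rfl
      rw [MulAut.conjNormal_apply] at h2
      have h3 : x * v * x⁻¹ = v := h2
      rw [mul_inv_eq_iff_eq_mul] at h3
      exact h3.symm
    · intro h
      refine MulEquiv.ext fun v => ?_
      apply Subtype.ext
      rw [MulAut.conjNormal_apply, mul_inv_eq_iff_eq_mul]
      exact (h v v.2).symm
  have hG' : G2 (X ⧸ (MulAut.conjNormal : X →* MulAut V).ker) :=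
    g2_of_equiv (QuotientGroup.quotientMulEquivOfEq hker.symm) hG
  let _ : CommGroup V := { (inferInstance : Group V) with mul_comm := hcomm }
  refine card_le_three_aut (p := p) (W := V) ?_ (MulAut.conjNormal : X →* MulAut V) ?_ (f := f) ?_
    (a := a) (b := b) ?_ ?_
  · intro w
    apply Subtype.ext
    exact hexp w w.2
  · intro v w hv hw
    obtain ⟨x, hx⟩ := isConj_iff.1 (htr v v.2 w w.2 (fun h => hv (Subtype.ext h))
      (fun h => hw (Subtype.ext h)))
    refine ⟨x, Subtype.ext ?_⟩
    exact (MulAut.conjNormal_apply x v).trans hx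
  · intro v hv S hS
    have h1 : S = Subgroup.centralizer ({(v : X)} : Set X) := by
      ext x
      rw [hS, Subgroup.mem_centralizer_singleton_iff]
      constructor
      · intro h
        have h2 : (((MulAut.conjNormal x : MulAut V) v : V) : X) = v := congrArg Subtype.val h
        have h3 := (MulAut.conjNormal_apply x v).symm.trans h2
        rw [mul_inv_eq_iff_eq_mul] at h3
        exact h3
      · intro h
        apply Subtype.ext
        refine (MulAut.conjNormal_apply x v).trans ?_
        rw [mul_inv_eq_iff_eq_mul]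
        exact h
    have h2 := hstab v v.2 (fun h => hv (Subtype.ext h))
    rw [← h1] at h2
    rw [← h2]
    congr 1
  · rw [← hab, ← hker]
  · exact hG'

end Cfsg.Agent.H648.NormLin
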