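import Mathlib
import Cfsg.Agent.H648.NormTheta
import Cfsg.Agent.H648.NormInd
import Cfsg.Agent.H648.NormLin
import Cfsg.Agent.H648.Canonical
import Cfsg.Agent.H591.Reynolds
import Cfsg.Agent.S4437

/-!
# Blocks with a normal elementary abelian defect group `V`, `k(B) ≤ l(B) + 1 ≤ 3`: the stable case
-/

set_option autoImplicit false
set_option linter.unusedSectionVars false

open Cfsg

namespace Cfsg.Agent.H648.NormStab

open Cfsg.Agent.H644 Cfsg.Agent.Blocks.Local
open Cfsg.Agent.H648.Dict Cfsg.Agent.H648.GoodCount Cfsg.Agent.H622.Star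
open Cfsg.Agent.H591.Reynolds (IsStab)
open Cfsg.Agent.Blocks.Covering (conjIrr conjIrr_apply)
open Cfsg.Agent.Blocks.Basic (isPBlock_nonempty isPBlock_sameBlock isPGroup_of_isDefectGroup
  isPBlock_eq_of_mem isPBlock_blockOf mem_blockOf_self)

universe u

variable {X : Type u} [Group X] [Finite X] {p : ℕ} [Fact p.Prime] {M : Ideal AlgInt}

/-- There are characters over every invariant character. -/
theorem exists_mem_over {C : Subgroup X} [C.Normal] {θ : C → ℂ} (hθ : IsIrrCharacter C θ)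
    (hinv : Inv θ) : ∃ χ : IrrCharacter X, χ ∈ Over C θ := by
  have := Characters.Core.finite_irr (G := X)
  have := Fintype.ofFinite (Over C θ)
  by_contra h
  push Not at h
  have h1 := index_eq_sum hθ hinv
  have h2 : IsEmpty (Over C θ) := ⟨fun χ => h χ.1 χ.2⟩
  rw [Finset.univ_eq_empty, Finset.sum_empty] at h1
  exact Subgroup.index_ne_zero_of_finite h1

theorem covers_of_mem_over {C : Subgroup X} [C.Normal] [Fintype C] {θ : IrrCharacter C}
    {b : Set (IrrCharacter C)} (hθ : θ ∈ b) {χ : IrrCharacter X} (hχ : χ ∈ Over C (θ : C → ℂ))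
    {β : Set (IrrCharacter X)} (hβ : χ ∈ β) : Covers C β b := by
  refine ⟨χ, hβ, θ, hθ, fun h => ?_⟩
  have h1 := classInner_of_mem_over θ.2 hχ
  rw [h, zero_mul] at h1
  exact Characters.Core.isIrr_apply_one_ne_zero χ.2 h1.symm

section Stable

variable (V C : Subgroup X) [V.Normal] [C.Normal] [Fintype C]

include V in
/-- The canonical character. -/
theorem exists_theta (hM : IsPModular p M) (hC : Subgroup.centralizer (V : Set X) = C)
    (hVC : V ≤ C) {b : Set (IrrCharacter C)} (hb : IsPBlock M b)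
    (hbD : IsDefectGroup p M b (V.subgroupOf C)) (hst : IsStab b (⊤ : Subgroup X)) :
    ∃ θ ∈ b, Inv (θ : C → ℂ) ∧
      (∀ n : C, (n : X) ∈ V → (θ : C → ℂ) n = (θ : C → ℂ) 1) ∧
      p ^ (V.relIndex C).factorization p ∣ charDegree (θ : C → ℂ) := by
  have hU : V.subgroupOf C ≤ Subgroup.center C := by
    intro v hv
    rw [Subgroup.mem_center_iff]
    intro c
    apply Subtype.ext
    have h1 : (c : X) ∈ Subgroup.centralizer (V : Set X) := by rw [hC]; exact c.2
    exact ((Subgroup.mem_centralizer_iff.1 h1) v hv).symm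
  obtain ⟨θ, hθ, h1, h2, h3⟩ := Canonical.exists_canonical hM (V.subgroupOf C) hU hb hbD
  refine ⟨θ, hθ, ?_, fun n hn => h1 n hn, h2⟩
  intro g n
  have h4 : conjIrr C g θ ∈ b := (hst.mem_iff g).1 (Subgroup.mem_top g) θ hθ
  have h5 := h3 _ h4 (fun u hu => by
    rw [conjIrr_apply, conjIrr_apply, map_one]
    refine h1 _ ?_
    rw [Subgroup.mem_subgroupOf, MulAut.conjNormal_apply]
    exact (inferInstance : V.Normal).conj_mem _ (Subgroup.mem_subgroupOf.1 hu) g)
  have h6 := congrFun (congrArg Subtype.val h5) n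
  exact h6

/-- The index of `C` is prime to `p`. -/
theorem not_dvd_index (hM : IsPModular p M) (hC : Subgroup.centralizer (V : Set X) = C)
    (hVC : V ≤ C) (hV : IsPGroup p V) {b : Set (IrrCharacter C)} (hb : IsPBlock M b)
    (hbD : IsDefectGroup p M b (V.subgroupOf C)) (hst : IsStab b (⊤ : Subgroup X))
    {B : Set (IrrCharacter X)} (hB : IsPBlock M B) (hBD : IsDefectGroup p M B V)
    (hcov : Covers C B b) : ¬ p ∣ C.index := by
  have := Fintype.ofFinite X
  have h1 := NormInd.isInducedBlock_of_covers V hM hV C hVC hC hb hB hcov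
  have h2 := (Cfsg.Agent.S4437.result p M hM V hV C (by rw [hC, sup_eq_right.2 hVC]) b hb hbD B h1
    ⊤ ?_).1 hBD
  · rwa [Subgroup.relIndex_top_right] at h2
  · intro g
    constructor
    · intro _
      refine ⟨by rw [Subgroup.normalizer_eq_top]; exact Subgroup.mem_top g, ?_⟩
      intro θ hθ θ' h
      have h3 := (hst g⁻¹).1 (Subgroup.mem_top _) θ hθ θ'
      refine h3 fun n => ?_
      refine h ⟨g⁻¹ * n * g⁻¹⁻¹, Subgroup.Normal.conj_mem inferInstance _ n.2 _⟩ n ?_
      group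
    · intro _
      exact Subgroup.mem_top g

/-- The group level: all the characters over `θ` lie in `B`. -/
theorem card_over_le (hM : IsPModular p M) (hC : Subgroup.centralizer (V : Set X) = C)
    (hVC : V ≤ C) (hV : IsPGroup p V) {b : Set (IrrCharacter C)} (hb : IsPBlock M b)
    {B : Set (IrrCharacter X)} (hB : IsPBlock M B)
    (hcov : Covers C B b) (hidx : ¬ p ∣ C.index) {θ : IrrCharacter C} (hθ : θ ∈ b)
    (hinv : Inv (θ : C → ℂ)) (htriv : ∀ n : C, (n : X) ∈ V → (θ : C → ℂ) n = (θ : C → ℂ) 1)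
    (hdeg : p ^ (V.relIndex C).factorization p ∣ charDegree (θ : C → ℂ)) :
    Nat.card (Over C (θ : C → ℂ)) ≤ blockRank p B := by
  have hp : M.IsPrime := isPrime_of_isPModular hM
  have h0 := NormInd.isInducedBlock_of_covers V hM hV C hVC hC hb hB hcov
  refine NormTheta.card_over_le_blockRank V hV hVC htriv hdeg hidx ?_
  intro χ hχ
  have h1 := covers_of_mem_over (C := C) hθ hχ (mem_blockOf_self (M := M) χ)
  have h2 := NormInd.isInducedBlock_of_covers V hM hV C hVC hC hb (isPBlock_blockOf (M := M) χ) h1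
  rw [isInducedBlock_unique h0 h2]
  exact mem_blockOf_self χ

/-- The level of a subgroup `Y ≥ C`. -/
theorem exists_beta (hM : IsPModular p M) (hC : Subgroup.centralizer (V : Set X) = C)
    (hVC : V ≤ C) (hV : IsPGroup p V) {b : Set (IrrCharacter C)} (hb : IsPBlock M b)
    {B : Set (IrrCharacter X)} (hB : IsPBlock M B)
    (hcov : Covers C B b) (hidx : ¬ p ∣ C.index) {θ : IrrCharacter C} (hθ : θ ∈ b)
    (hinv : Inv (θ : C → ℂ)) (htriv : ∀ n : C, (n : X) ∈ V → (θ : C → ℂ) n = (θ : C → ℂ) 1)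
    (hdeg : p ^ (V.relIndex C).factorization p ∣ charDegree (θ : C → ℂ))
    {Y : Subgroup X} (hCY : C ≤ Y) :
    ∃ β : Set (IrrCharacter Y), IsInducedBlock M Y β B ∧
      (blockRank p β = 1 → ∃ f : ℕ, C.relIndex Y = f ^ 2) := by
  classical
  have hp : M.IsPrime := isPrime_of_isPModular hM
  have := Fintype.ofFinite (C.subgroupOf Y)
  have hVY := hVC.trans hCY
  have : (C.subgroupOf Y).Normal := Subgroup.normal_subgroupOf
  have : (V.subgroupOf Y).Normal := Subgroup.normal_subgroupOf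
  let e := (Subgroup.subgroupOfEquivOfLe hCY).symm
  let η : IrrCharacter (C.subgroupOf Y) := Cfsg.Agent.H649.irrMap e θ
  have hη : ∀ n : C.subgroupOf Y, (η : C.subgroupOf Y → ℂ) n =
      (θ : C → ℂ) ⟨((n : Y) : X), Subgroup.mem_subgroupOf.1 n.2⟩ := fun _ => rfl
  have hηinv : Inv (η : C.subgroupOf Y → ℂ) := by
    intro g n
    rw [hη, hη, ← hinv (g : X) ⟨((n : Y) : X), Subgroup.mem_subgroupOf.1 n.2⟩]
    congr 1
  obtain ⟨χ, hχ⟩ := exists_mem_over η.2 hηinv
  have hηb : η ∈ Cfsg.Agent.H649.blkMap e b := Cfsg.Agent.H649.irrMap_mem_blkMap.2 hθ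
  have hind : IsInducedBlock M Y (blockOf M (χ : Y → ℂ)) B :=
    NormInd.isInducedBlock_of_covers_copy V hM hV C hC hb hB hcov hVY hCY
      (isPBlock_blockOf (M := M) χ) (covers_of_mem_over hηb hχ (mem_blockOf_self χ))
  refine ⟨_, hind, fun hrank => ?_⟩
  have hsub : Over (C.subgroupOf Y) (η : C.subgroupOf Y → ℂ) ⊆ blockOf M (χ : Y → ℂ) := by
    intro χ' hχ'
    have := Fintype.ofFinite Y
    refine Cfsg.Agent.H646.NormalSupport.sameBlock_of_common_constituent hM (V.subgroupOf Y)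
      (hV.comap_subtype) (C.subgroupOf Y) ?_ (θ := η) ?_ ?_
    · intro y hy
      rw [Subgroup.mem_subgroupOf, ← hC, Subgroup.mem_centralizer_iff]
      intro v hv
      exact congrArg Subtype.val ((Subgroup.mem_centralizer_iff.1 hy) ⟨v, hVY hv⟩ hv)
    · obtain ⟨χ₁, h1, θ₁, h2, h3⟩ := covers_of_mem_over (b := {η}) rfl hχ (Set.mem_singleton χ)
      rw [Set.mem_singleton_iff.1 h1, Set.mem_singleton_iff.1 h2] at h3
      exact h3
    · obtain ⟨χ₁, h1, θ₁, h2, h3⟩ := covers_of_mem_over (b := {η}) rfl hχ' (Set.mem_singleton χ')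
      rw [Set.mem_singleton_iff.1 h1, Set.mem_singleton_iff.1 h2] at h3
      exact h3
  have hcard := NormTheta.card_over_le_blockRank (p := p) (V.subgroupOf Y) hV.comap_subtype
    (N := C.subgroupOf Y) (fun y hy => hVC hy) (θ := η) (fun n hn => by
      rw [hη, hη]
      exact htriv _ hn) (by
      rw [Subgroup.relIndex_subgroupOf hCY, Cfsg.Agent.H649.charDegree_irrMap]
      exact hdeg) (by
      intro h
      exact hidx (h.trans (Subgroup.relIndex_dvd_index_of_normal C Y))) hsub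
  rw [hrank] at hcard
  exact exists_sq η.2 hηinv hcard

/-- The stable case. -/
theorem card_le_three (hM : IsPModular p M) (hC : Subgroup.centralizer (V : Set X) = C)
    (hVC : V ≤ C) (hexp : ∀ v ∈ V, v ^ p = 1) (hV1 : V ≠ ⊥)
    {b : Set (IrrCharacter C)} (hb : IsPBlock M b)
    (hbD : IsDefectGroup p M b (V.subgroupOf C)) (hst : IsStab b (⊤ : Subgroup X))
    {B : Set (IrrCharacter X)} (hB : IsPBlock M B) (hBD : IsDefectGroup p M B V)
    (hcov : Covers C B b) (hl : blockRank p B ≤ 2) (hk : Nat.card B ≤ blockRank p B + 1) :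
    Nat.card V ≤ 3 := by
  have hp : p.Prime := Fact.out
  have hV : IsPGroup p V := isPGroup_of_isDefectGroup hBD
  have hidx := not_dvd_index V C hM hC hVC hV hb hbD hst hB hBD hcov
  obtain ⟨θ, hθ, hinv, htriv, hdeg⟩ := exists_theta V C hM hC hVC hb hbD hst
  have hcard : Nat.card (Over C (θ : C → ℂ)) ≤ 2 :=
    (card_over_le V C hM hC hVC hV hb hB hcov hidx hθ hinv htriv hdeg).trans hl
  obtain ⟨a, c, hac⟩ := exists_sq_add_sq θ.2 hinv hcard
  have hord : ∀ v ∈ V, ∃ k : ℕ, orderOf v = p ^ k := by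
    intro v hv
    obtain ⟨k, hk⟩ := IsPGroup.iff_orderOf.1 hV ⟨v, hv⟩
    exact ⟨k, by rw [← hk, Subgroup.orderOf_mk]⟩
  have hY : ∀ v ∈ V, v ≠ 1 → C ≤ Subgroup.centralizer ({v} : Set X) := by
    intro v hv _
    rw [← hC]
    exact Subgroup.centralizer_le (Set.singleton_subset_iff.2 hv)
  have hind : ∀ v ∈ V, v ≠ 1 → ∃ β : Set (IrrCharacter (Subgroup.centralizer ({v} : Set X))),
      IsInducedBlock M (Subgroup.centralizer ({v} : Set X)) β B ∧
        ∃ f : ℕ, C.relIndex (Subgroup.centralizer ({v} : Set X)) = f ^ 2 := by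
    intro v hv hv1
    obtain ⟨β, h1, h2⟩ := exists_beta V C hM hC hVC hV hb hB hcov hidx hθ hinv htriv hdeg
      (hY v hv hv1)
    exact ⟨β, h1, h2 (SecOne.blockRank_eq_one_of_induced hM hB hk (hord v hv) hv1 h1)⟩
  have htr : ∀ v ∈ V, ∀ w ∈ V, v ≠ 1 → w ≠ 1 → IsConj v w := by
    intro v hv w hw hv1 hw1
    obtain ⟨β, h1, -⟩ := hind v hv hv1
    obtain ⟨β', h1', -⟩ := hind w hw hw1
    exact SecOne.isConj_of_induced hM hB hk (hord v hv) hv1 (hord w hw) hw1 h1 h1'
  obtain ⟨⟨v₀, hv₀⟩, hv₀'⟩ := Subgroup.ne_bot_iff_exists_ne_one.1 hV1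
  have hv₀1 : v₀ ≠ 1 := fun h => hv₀' (Subtype.ext h)
  obtain ⟨-, -, f, hf⟩ := hind v₀ hv₀ hv₀1
  refine NormLin.card_le_three (p := p) V C hC hVC hexp hV1 htr (f := f) ?_ hac ?_
  · intro v hv hv1
    rw [← hf]
    obtain ⟨x, hx⟩ := isConj_iff.1 (htr v hv v₀ hv₀ hv1 hv₀1)
    have h1 : (Subgroup.centralizer ({v} : Set X)).index =
        (Subgroup.centralizer ({v₀} : Set X)).index := by
      rw [← Cfsg.Agent.H649.index_centralizer_map (MulAut.conj x) v, MulAut.conj_apply, hx]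
    have h2 := Subgroup.relIndex_mul_index (hY v hv hv1)
    have h3 := Subgroup.relIndex_mul_index (hY v₀ hv₀ hv₀1)
    rw [h1] at h2
    exact Nat.eq_of_mul_eq_mul_right (Nat.pos_of_ne_zero Subgroup.index_ne_zero_of_finite)
      (h2.trans h3.symm)
  · intro x y hx hy hcx hcy
    obtain ⟨x, rfl⟩ := QuotientGroup.mk_surjective x
    obtain ⟨y, rfl⟩ := QuotientGroup.mk_surjective y
    exact isConj_of_card_le_two θ.2 hinv hcard (fun h => hx ((QuotientGroup.eq_one_iff x).2 h))
      (fun h => hy ((QuotientGroup.eq_one_iff y).2 h)) hcx hcy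

end Stable

end Cfsg.Agent.H648.NormStab
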