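import Mathlib
import Cfsg.Agent.H648.NormAb
import Cfsg.Agent.H648.HeightForm
import Cfsg.Agent.H644.CentralQuot
import Cfsg.Agent.S4434
import Cfsg.Agent.S0972
import Cfsg.Agent.S0908
import Cfsg.Agent.Lib.FrattiniPGroup

/-!
# Blocks with a normal defect group of exponent `p` and at most three characters of height zero
-/

set_option autoImplicit false

open Cfsg

namespace Cfsg.Agent.H648.ThreeNorm

open Cfsg.Agent.H644.CentralQuot (infl infl_injective charDegree_infl)

universe u

theorem isCyclic_of_quotient {U : Type*} [Group U] [Finite U] {p : ℕ} [Fact p.Prime]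
    (hU : IsPGroup p U) (hc : IsCyclic (U ⧸ commutator U)) : IsCyclic U := by
  obtain ⟨v, hv⟩ := hc.exists_generator
  obtain ⟨g, rfl⟩ := QuotientGroup.mk_surjective v
  refine ⟨g, fun x => ?_⟩
  show x ∈ Subgroup.zpowers g
  by_contra hx
  have hne : Subgroup.zpowers g ≠ ⊤ := fun h => hx (h ▸ Subgroup.mem_top x)
  rcases eq_top_or_exists_le_coatom (Subgroup.zpowers g) with h1 | ⟨M, hM, hgM⟩
  · exact hne h1
  · apply hM.1
    rw [eq_top_iff]
    intro y _
    obtain ⟨k, hk⟩ := Subgroup.mem_zpowers_iff.1 (hv (QuotientGroup.mk y))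
    have h2 : (QuotientGroup.mk (g ^ k) : U ⧸ commutator U) = QuotientGroup.mk y := hk
    rw [QuotientGroup.eq] at h2
    have h3 : (g ^ k)⁻¹ * y ∈ M := frattini_le_coatom hM
      (Cfsg.Agent.Lib.FrattiniPGroup.commutator_le_frattini hU h2)
    have h4 : g ^ k ∈ M := zpow_mem (hgM (Subgroup.mem_zpowers g)) k
    have : y = g ^ k * ((g ^ k)⁻¹ * y) := by group
    rw [this]
    exact mul_mem h4 h3

variable {N : Type u} [Group N] [Finite N] {p : ℕ} [Fact p.Prime] {M : Ideal AlgInt}

theorem card_le_three (hM : IsPModular p M) (D : Subgroup N) [D.Normal]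
    (hexp : ∀ v ∈ D, v ^ p = 1) (hD1 : D ≠ ⊥)
    {b : Set (IrrCharacter N)} (hb : IsPBlock M b) (hbD : IsDefectGroup p M b D)
    (hk : Nat.card {ψ : IrrCharacter N // ψ ∈ b ∧ blockHeight p b (ψ : N → ℂ) = 0} ≤ 3) :
    Nat.card D ≤ 3 := by
  have hp : p.Prime := Fact.out
  have hprime : M.IsPrime := Cfsg.Agent.Blocks.Local.isPrime_of_isPModular hM
  have hDp : IsPGroup p D := Cfsg.Agent.Blocks.Basic.isPGroup_of_isDefectGroup hbD
  have := Characters.Core.finite_irr (G := N)
  let Φ : Subgroup N := ⁅D, D⁆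
  have hΦn : Φ.Normal := Subgroup.commutator_normal D D
  have hΦD : Φ ≤ D := Subgroup.commutator_le_left D D
  have hΦp : IsPGroup p Φ := hDp.to_le hΦD
  obtain ⟨bb, hbb, hinf, hdef⟩ := Cfsg.Agent.S4434.result p M hM Φ hΦp b hb
  let V : Subgroup (N ⧸ Φ) := D.map (QuotientGroup.mk' Φ)
  have hVn : V.Normal := Subgroup.Normal.map inferInstance _ (QuotientGroup.mk'_surjective Φ)
  have hVD : IsDefectGroup p M bb V := (hdef V).2 ⟨D, hbD, rfl⟩
  -- cardinalities
  have hcardV : Nat.card V * Nat.card Φ = Nat.card D := by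
    have h1 := (((QuotientGroup.mk' Φ).subgroupMap D).ker).card_mul_index
    rw [Subgroup.index_ker, MonoidHom.range_eq_top.2 (MonoidHom.subgroupMap_surjective _ _),
      Subgroup.card_top] at h1
    have h2 : ((QuotientGroup.mk' Φ).subgroupMap D).ker = Φ.subgroupOf D := by
      ext x
      rw [MonoidHom.mem_ker, Subgroup.mem_subgroupOf, ← QuotientGroup.eq_one_iff]
      exact ⟨fun h => congrArg Subtype.val h, fun h => Subtype.ext h⟩
    rw [h2, Nat.card_congr (Subgroup.subgroupOfEquivOfLe hΦD).toEquiv, mul_comm] at h1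
    exact h1
  have hd : blockDefect p b = blockDefect p bb + (Nat.card Φ).factorization p := by
    have h1 := Cfsg.Agent.S0908.result p M hM b hb D hbD
    have h2 := Cfsg.Agent.S0908.result p M hM bb hbb V hVD
    rw [h1, h2] at hcardV
    have h3 : (p ^ blockDefect p bb * Nat.card Φ).factorization p =
        (p ^ blockDefect p b).factorization p := by rw [hcardV]
    rw [Nat.factorization_mul (pow_pos hp.pos _).ne' Nat.card_pos.ne', Finsupp.add_apply,
      hp.factorization_pow, hp.factorization_pow, Finsupp.single_eq_same,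
      Finsupp.single_eq_same] at h3
    exact h3.symm
  have hNcard : (Nat.card N).factorization p =
      (Nat.card (N ⧸ Φ)).factorization p + (Nat.card Φ).factorization p := by
    rw [Subgroup.card_eq_card_quotient_mul_card_subgroup Φ,
      Nat.factorization_mul Nat.card_pos.ne' Nat.card_pos.ne', Finsupp.add_apply]
  -- commutativity and exponent
  have hcomm : ∀ v ∈ V, ∀ w ∈ V, v * w = w * v := by
    rintro _ ⟨a, ha, rfl⟩ _ ⟨c, hc, rfl⟩
    have h1 : a * c * a⁻¹ * c⁻¹ ∈ Φ := Subgroup.commutator_mem_commutator ha hc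
    have h2 : (QuotientGroup.mk' Φ) (a * c * a⁻¹ * c⁻¹) = 1 := (QuotientGroup.eq_one_iff _).2 h1
    rw [map_mul, map_mul, map_mul, map_inv, map_inv, mul_inv_eq_one, mul_inv_eq_iff_eq_mul] at h2
    exact h2
  have hVexp : ∀ v ∈ V, v ^ p = 1 := by
    rintro _ ⟨a, ha, rfl⟩
    rw [← map_pow, hexp a ha, map_one]
  have hcom : (commutator D).map D.subtype = Φ := by
    rw [commutator_def, Subgroup.map_commutator, ← MonoidHom.range_eq_map, Subgroup.range_subtype]
  have hcc : Nat.card (commutator D) = Nat.card Φ := by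
    rw [← hcom]
    exact Nat.card_congr ((commutator D).equivMapOfInjective _ (Subgroup.subtype_injective D)).toEquiv
  have hcq : Nat.card (D ⧸ commutator D) = Nat.card V := by
    have h1 := Subgroup.card_eq_card_quotient_mul_card_subgroup (commutator D)
    rw [hcc, ← hcardV] at h1
    exact (Nat.eq_of_mul_eq_mul_right Nat.card_pos h1).symm
  have hV1 : V ≠ ⊥ := by
    intro h
    rw [h, Subgroup.card_bot] at hcq
    have h1 : commutator D = ⊤ := by
      rw [← Subgroup.index_eq_one]
      exact hcq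
    have hnt : Nontrivial D := (Subgroup.nontrivial_iff_ne_bot D).2 hD1
    have hnil : Group.IsNilpotent D := hDp.isNilpotent
    have hs : Group.IsSolvable D := inferInstance
    exact (Group.IsSolvable.commutator_lt_top_of_nontrivial (G := D)).ne h1
  -- the characters
  have hk' : Nat.card bb ≤ 3 := by
    refine le_trans ?_ hk
    have := Fintype.ofFinite N
    have := Fintype.ofFinite (N ⧸ Φ)
    have hht := (Cfsg.Agent.S0972.result p M hM bb hbb V hVD).1 hcomm
    refine Nat.card_le_card_of_injective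
      (fun χ : bb => (⟨infl Φ χ.1, hinf χ.1 χ.2 _ rfl, ?_⟩ :
        {ψ : IrrCharacter N // ψ ∈ b ∧ blockHeight p b (ψ : N → ℂ) = 0})) ?_
    · have h1 := HeightForm.defect_add (p := p) bb χ.2
      have h2 := HeightForm.defect_add (p := p) b (hinf χ.1 χ.2 (infl Φ χ.1) rfl)
      rw [charDegree_infl] at h2
      rw [hht χ.1 χ.2] at h1
      omega
    · intro χ χ' h
      exact Subtype.ext (infl_injective Φ (congrArg Subtype.val h))
  have hV3 := NormAb.card_le_three hM V hcomm hVexp hV1 hbb hVD hk'
  -- `D` is cyclic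
  have hcyc : IsCyclic (D ⧸ commutator D) := by
    have h0 : 0 < Nat.card (D ⧸ commutator D) := Nat.card_pos
    rw [← hcq] at hV3
    generalize hn : Nat.card (D ⧸ commutator D) = n at h0 hV3
    interval_cases n
    · have := (Nat.card_eq_one_iff_unique.1 hn).1
      exact isCyclic_of_subsingleton
    · have : Fact (Nat.Prime 2) := ⟨Nat.prime_two⟩
      exact isCyclic_of_prime_card hn
    · have : Fact (Nat.Prime 3) := ⟨Nat.prime_three⟩
      exact isCyclic_of_prime_card hn
  have hD := isCyclic_of_quotient hDp hcyc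
  have hΦ1 : commutator D = ⊥ := by
    rw [commutator_def, Subgroup.commutator_eq_bot_iff_le_centralizer]
    intro x _
    rw [Subgroup.mem_centralizer_iff]
    intro y _
    let _ := hD.commGroup
    exact mul_comm y x
  rw [hΦ1, Subgroup.card_bot] at hcc
  rw [← hcardV, ← hcc, mul_one]
  exact hV3

end Cfsg.Agent.H648.ThreeNorm
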