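import Mathlib
import Cfsg.Agent.H648.ThreeNorm
import Cfsg.Agent.H648.SecOne
import Cfsg.Agent.H649.DefectPair
import Cfsg.Agent.S4655
import Cfsg.Agent.S4658
import Cfsg.Agent.S4648
import Cfsg.Agent.S4733
import Cfsg.Agent.S0908

/-!
# Blocks with three characters
-/

set_option autoImplicit false

open Cfsg

namespace Cfsg.Agent.H648.ThreeMain

universe u

variable {G : Type u} [Group G] [Finite G] {p : ℕ} [Fact p.Prime] {M : Ideal AlgInt}

/-- Every element of the defect group has a block of its centralizer inducing `B`. -/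
theorem exists_induced (hM : IsPModular p M) {B : Set (IrrCharacter G)} (hB : IsPBlock M B)
    {D : Subgroup G} (hD : IsDefectGroup p M B D) {v : G} (hv : v ∈ D) :
    ∃ b : Set (IrrCharacter (Subgroup.centralizer ({v} : Set G))),
      IsInducedBlock M (Subgroup.centralizer ({v} : Set G)) b B := by
  have := Fintype.ofFinite G
  have := Cfsg.Agent.Blocks.Local.isPrime_of_isPModular hM
  have hDp : IsPGroup p D := Cfsg.Agent.Blocks.Basic.isPGroup_of_isDefectGroup hD
  obtain ⟨e, he⟩ := Cfsg.Agent.H649.exists_pair_of_isDefectGroup hM hB hD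
  have hvD' : Subgroup.zpowers v ≤ D := Subgroup.zpowers_le.2 hv
  obtain ⟨f, ⟨hf, hfle⟩, -⟩ := Cfsg.Agent.S4655.result p M hM D (Subgroup.zpowers v) e he.1 hvD'
  have hvp : IsPGroup p (Subgroup.zpowers v) := hDp.to_le hvD'
  have hpair := (Cfsg.Agent.S4658.result p M hM D (Subgroup.zpowers v) e f he.1 ⟨hvp, hf⟩ hfle B
    hB).1 he
  have hind := (Cfsg.Agent.H649.isBrauerPairOf_iff_isInducedBlock hM hB hvp hf).1 hpair
  have hC : Subgroup.centralizer ({v} : Set G) =
      Subgroup.centralizer ((Subgroup.zpowers v : Subgroup G) : Set G) := by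
    ext y
    rw [Subgroup.mem_centralizer_singleton_iff, Subgroup.mem_centralizer_iff]
    constructor
    · rintro h _ ⟨n, rfl⟩
      exact ((show Commute v y from h.symm).zpow_left n).eq
    · intro h
      exact (h v (Subgroup.mem_zpowers v)).symm
  rw [hC]
  exact ⟨f, hind⟩

/-- `k(B) = l(B) + 1`: the defect group has exponent `p`. -/
theorem pow_eq_one (hM : IsPModular p M) {B : Set (IrrCharacter G)} (hB : IsPBlock M B)
    {D : Subgroup G} (hD : IsDefectGroup p M B D) (hD1 : D ≠ ⊥)
    (hk : Nat.card B ≤ blockRank p B + 1) {v : G} (hv : v ∈ D) : v ^ p = 1 := by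
  have hp : p.Prime := Fact.out
  have hDp : IsPGroup p D := Cfsg.Agent.Blocks.Basic.isPGroup_of_isDefectGroup hD
  have hord : ∀ v ∈ D, ∃ k : ℕ, orderOf v = p ^ k := by
    intro v hv
    obtain ⟨k, hk⟩ := IsPGroup.iff_orderOf.1 hDp ⟨v, hv⟩
    exact ⟨k, by rw [← hk, Subgroup.orderOf_mk]⟩
  obtain ⟨n, hn⟩ := hDp.exists_card_eq
  have hn0 : n ≠ 0 := by
    rintro rfl
    rw [pow_zero, Subgroup.card_eq_one] at hn
    exact hD1 hn
  obtain ⟨z, hz⟩ := exists_prime_orderOf_dvd_card' (G := D) p (hn ▸ dvd_pow_self p hn0)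
  have hz' : orderOf (z : G) = p := by rw [Subgroup.orderOf_coe, hz]
  have hz1 : (z : G) ≠ 1 := by
    intro h
    rw [h, orderOf_one] at hz'
    exact hp.one_lt.ne hz'
  by_cases hv1 : v = 1
  · rw [hv1, one_pow]
  · obtain ⟨b, hb⟩ := exists_induced hM hB hD hv
    obtain ⟨b', hb'⟩ := exists_induced hM hB hD z.2
    obtain ⟨c, hc⟩ := isConj_iff.1
      (SecOne.isConj_of_induced hM hB hk (hord v hv) hv1 (hord z z.2) hz1 hb hb')
    have h1 : orderOf v = p := by
      rw [← hz', ← hc]
      exact (MulEquiv.orderOf_eq (MulAut.conj c) v).symm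
    rw [← h1]
    exact pow_orderOf_eq_one v

/-- **S4609.** -/
theorem main (hM : IsPModular p M) {B : Set (IrrCharacter G)} (hB : IsPBlock M B)
    {D : Subgroup G} (hD : IsDefectGroup p M B D) (hk : Nat.card B = 3)
    {b : Set (IrrCharacter (Subgroup.normalizer (D : Set G)))}
    (hb : IsPBlock M b)
    (hbD : IsDefectGroup p M b (D.subgroupOf (Subgroup.normalizer (D : Set G))))
    (hAM : Nat.card {χ : IrrCharacter G // χ ∈ B ∧ blockHeight p B (χ : G → ℂ) = 0} =
      Nat.card {ψ : IrrCharacter (Subgroup.normalizer (D : Set G)) //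
        ψ ∈ b ∧ blockHeight p b (ψ : Subgroup.normalizer (D : Set G) → ℂ) = 0}) :
    Nat.card D = 3 := by
  have hp : p.Prime := Fact.out
  have hprime : M.IsPrime := Cfsg.Agent.Blocks.Local.isPrime_of_isPModular hM
  have := Characters.Core.finite_irr (G := G)
  obtain ⟨h1, h2, h3⟩ := Cfsg.Agent.S4733.result p M hM B hB
  have h4 := Cfsg.Agent.S0908.result p M hM B hB D hD
  have h5 : blockDefect p B ≠ 0 := by
    intro h
    have := (h2.1 h).1
    omega
  have hD1 : D ≠ ⊥ := by
    rintro rfl
    rw [Subgroup.card_bot] at h4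
    rcases Nat.pow_eq_one.1 h4.symm with h | h
    · exact hp.one_lt.ne' h
    · exact h5 h
  have h6 : Nat.card B ≠ blockRank p B := fun h => h5 (h3.2 h)
  have h7 := SecOne.blockRank_pos (p := p) hB
  rcases Nat.lt_or_ge (blockRank p B) 2 with h9 | h9
  · rw [(Cfsg.Agent.S4648.result p M hM B hB D hD hD1 (by omega) (by omega)).2.1, hk]
  · have h10 : blockRank p B = 2 := by omega
    have hexp : ∀ v ∈ D, v ^ p = 1 := fun v hv =>
      pow_eq_one hM hB hD hD1 (by omega) hv
    let N := Subgroup.normalizer (D : Set G)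
    have hDN : D ≤ N := Subgroup.le_normalizer
    have hn : (D.subgroupOf N).Normal := Subgroup.normal_in_normalizer
    have hcardD : Nat.card (D.subgroupOf N) = Nat.card D :=
      Nat.card_congr (Subgroup.subgroupOfEquivOfLe hDN).toEquiv
    have hk3 : Nat.card {ψ : IrrCharacter N // ψ ∈ b ∧ blockHeight p b (ψ : N → ℂ) = 0} ≤ 3 := by
      rw [← hAM, ← hk]
      exact Nat.card_le_card_of_injective (fun χ => (⟨χ.1, χ.2.1⟩ : B)) fun χ χ' h =>
        Subtype.ext (congrArg (fun x : B => (x : IrrCharacter G)) h)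
    have h11 : Nat.card (D.subgroupOf N) ≤ 3 := by
      refine ThreeNorm.card_le_three hM (D.subgroupOf N) ?_ ?_ hb hbD hk3
      · intro v hv
        exact Subtype.ext (hexp v hv)
      · intro h
        rw [h, Subgroup.card_bot] at hcardD
        exact hD1 (Subgroup.card_eq_one.1 hcardD.symm)
    rw [hcardD] at h11
    -- `|D|` is `2` or `3`
    have h12 : 1 < Nat.card D := by
      rw [Subgroup.one_lt_card_iff_ne_bot]
      exact hD1
    rcases Nat.lt_or_ge (Nat.card D) 3 with h13 | h13
    · exfalso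
      have h14 : Nat.card D = 2 := by omega
      rw [h14] at h4
      have := Fintype.ofFinite G
      have h15 := HeightForm.brauer_feit hM hB
      have h16 : p ^ (2 * blockDefect p B) = 4 := by
        rw [mul_comm, pow_mul, ← h4]
        norm_num
      rw [h16] at h15
      have h17 : 3 ≤ ∑ᶠ ψ ∈ B, p ^ (2 * blockHeight p B (ψ : G → ℂ)) := by
        classical
        have := Fintype.ofFinite (IrrCharacter G)
        rw [HeightForm.finsum_mem_filter, ← hk]
        have h18 : Nat.card B = ((Finset.univ : Finset (IrrCharacter G)).filter (· ∈ B)).card := by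
          rw [Nat.card_eq_fintype_card, Fintype.card_subtype]
        rw [h18, Finset.card_eq_sum_ones]
        exact Finset.sum_le_sum fun ψ _ => Nat.one_le_pow _ _ hp.pos
      omega
    · omega

end Cfsg.Agent.H648.ThreeMain
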